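import Mathlib
import Cfsg.Prelude.Def_MonsterType
import Cfsg.Agent.Helper1.Fitting
import Cfsg.Agent.Helper2.Layer3
import Cfsg.Agent.Helper3.ExtraCore

/-!
Groups of Baby Monster type: the hypothesis block of the definitions from data given element by
element.
-/

set_option autoImplicit false

namespace Cfsg.Agent.Helper9.MonsterType

open Cfsg

/-- The element-wise data of a group of Baby Monster type: `R` is the extraspecial subgroup, `Rep v x`
says that the lattice vector `v` represents `x` modulo the centre of `R`, and `Lift g c` says that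
`g` in the second Conway group is the image of the element `c` of the centralizer of `z`. -/
structure BT {H : Type*} [Group H] (z : H) (R : Subgroup H)
    (Rep : leechPerpU → H → Prop) (Lift : ↥Spor.Co2 → H → Prop) : Prop where
  z_ord : orderOf z = 2
  z_mem : z ∈ R
  R_comm : ∀ r ∈ R, r * z = z * r
  comm : ∀ a ∈ R, ∀ b ∈ R, a * b * a⁻¹ * b⁻¹ = 1 ∨ a * b * a⁻¹ * b⁻¹ = z
  sq : ∀ a ∈ R, a * a = 1 ∨ a * a = z
  cent : ∀ a ∈ R, (∀ b ∈ R, a * b = b * a) → a = 1 ∨ a = z
  card : Nat.card R = 2 ^ 23
  norm : ∀ c : H, c * z = z * c → ∀ r ∈ R, c * r * c⁻¹ ∈ R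
  selfC : ∀ c : H, c * z = z * c → (∀ r ∈ R, c * r = r * c) → c ∈ R
  nwc : ∃ g : H, g * z * g⁻¹ ∈ R ∧ g * z * g⁻¹ ≠ z
  lift_total : ∀ c : H, c * z = z * c → ∃ g, Lift g c
  lift_uniq : ∀ {g g' : ↥Spor.Co2} {c : H}, Lift g c → Lift g' c → g = g'
  lift_mul : ∀ {g g' : ↥Spor.Co2} {c c' : H}, Lift g c → Lift g' c' → Lift (g * g') (c * c')
  lift_comm : ∀ {g : ↥Spor.Co2} {c : H}, Lift g c → c * z = z * c
  lift_surj : ∀ g, ∃ c, Lift g c
  lift_ker : ∀ {g : ↥Spor.Co2} {c : H}, Lift g c → (c ∈ R ↔ g = 1)
  rep_mem : ∀ {v : leechPerpU} {x : H}, Rep v x → x ∈ R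
  rep_total : ∀ v, ∃ x, Rep v x
  rep_exists : ∀ x ∈ R, ∃ v, Rep v x
  rep_add : ∀ {v w : leechPerpU} {x y : H}, Rep v x → Rep w y → Rep (v + w) (x * y)
  rep_uniq : ∀ {v : leechPerpU} {x y : H}, Rep v x → Rep v y → y = x ∨ y = x * z
  rep_mul_z : ∀ {v : leechPerpU} {x : H}, Rep v x → Rep v (x * z)
  rep_ker : ∀ {v : leechPerpU} {x : H}, Rep v x → ((x = 1 ∨ x = z) ↔
    ((∃ w : leechLattice, (v : leechLattice) = w + w) ∨
      ∃ w : leechLattice, (v : leechLattice) = Spor.leechU + (w + w)))
  lift_rep : ∀ {g : ↥Spor.Co2} {c : H} {v y : leechPerpU} {x : H}, Lift g c → Rep v x →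
    g • (v : leechLattice) = (y : leechLattice) → Rep y (c * x * c⁻¹)

/-- A simple group whose order is not a prime is not nilpotent. -/
theorem not_nilpotent_of_simple {K : Type*} [Group K] (hs : IsSimpleGroup K)
    (hc : ¬ (Nat.card K).Prime) : ¬ Group.IsNilpotent K := by
  intro hn
  have hsol : Group.IsSolvable K := inferInstance
  have hcomm : ∀ a b : K, a * b = b * a := IsSimpleGroup.comm_iff_isSolvable.mpr hsol
  let _ : CommGroup K := { (inferInstance : Group K) with mul_comm := hcomm }
  exact hc (IsSimpleGroup.prime_card (α := K))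

section build

variable {H : Type*} [Group H] {z : H} {R : Subgroup H}
  {Rep : leechPerpU → H → Prop} {Lift : ↥Spor.Co2 → H → Prop}

theorem BT.z_ne (b : BT z R Rep Lift) : z ≠ 1 := by
  intro h
  have := b.z_ord
  rw [h, orderOf_one] at this
  omega

theorem BT.z_sq (b : BT z R Rep Lift) : z * z = 1 := by
  have := pow_orderOf_eq_one z
  rw [b.z_ord, pow_two] at this
  exact this

set_option maxHeartbeats 1000000 in
/-- The hypothesis block of the definitions from the element-wise data. -/
theorem BT.main [Finite H] (b : BT z R Rep Lift) (hs : IsSimpleGroup ↥Spor.Co2)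
    (hc : ¬ (Nat.card ↥Spor.Co2).Prime) : IsOfBabyMonsterType H := by
  classical
  have memC : ∀ x : H, x ∈ Subgroup.centralizer ({z} : Set H) ↔ x * z = z * x :=
    fun x => Subgroup.mem_centralizer_singleton_iff
  have hRC : R ≤ Subgroup.centralizer ({z} : Set H) := fun r hr => (memC r).mpr (b.R_comm r hr)
  have memQ : ∀ x : ↥(Subgroup.centralizer ({z} : Set H)),
      x ∈ R.subgroupOf (Subgroup.centralizer ({z} : Set H)) ↔ (x : H) ∈ R :=
    fun x => Subgroup.mem_subgroupOf
  have hQn : (R.subgroupOf (Subgroup.centralizer ({z} : Set H))).Normal := by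
    constructor
    intro n hn g
    rw [memQ] at hn ⊢
    have := b.norm (g : H) ((memC _).mp g.2) _ hn
    simpa using this
  -- the homomorphism onto the second Conway group
  have hlt : ∀ c : ↥(Subgroup.centralizer ({z} : Set H)), ∃ g, Lift g (c : H) :=
    fun c => b.lift_total c ((memC _).mp c.2)
  let πf : ↥(Subgroup.centralizer ({z} : Set H)) → ↥Spor.Co2 := fun c => Classical.choose (hlt c)
  have hπ : ∀ c : ↥(Subgroup.centralizer ({z} : Set H)), Lift (πf c) (c : H) :=
    fun c => Classical.choose_spec (hlt c)
  have hπmul : ∀ c d, πf (c * d) = πf c * πf d := fun c d =>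
    b.lift_uniq (hπ (c * d)) (by simpa using b.lift_mul (hπ c) (hπ d))
  let π : ↥(Subgroup.centralizer ({z} : Set H)) →* ↥Spor.Co2 := MonoidHom.mk' πf hπmul
  have hπa : ∀ c, π c = πf c := fun c => rfl
  have hπsurj : Function.Surjective π := by
    intro g
    obtain ⟨c, hcL⟩ := b.lift_surj g
    refine ⟨⟨c, (memC _).mpr (b.lift_comm hcL)⟩, ?_⟩
    rw [hπa]
    exact b.lift_uniq (hπ _) hcL
  have hker : R.subgroupOf (Subgroup.centralizer ({z} : Set H)) = π.ker := by
    ext c
    rw [memQ, MonoidHom.mem_ker, hπa]
    exact b.lift_ker (hπ c)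
  -- the centre of the extraspecial subgroup
  have hzC : z ∈ Subgroup.centralizer ({z} : Set H) := (memC z).mpr rfl
  have hcen : ∀ c : ↥(R.subgroupOf (Subgroup.centralizer ({z} : Set H))),
      c ∈ Subgroup.center ↥(R.subgroupOf (Subgroup.centralizer ({z} : Set H))) ↔
      ((c : ↥(Subgroup.centralizer ({z} : Set H))) : H) = 1 ∨
      ((c : ↥(Subgroup.centralizer ({z} : Set H))) : H) = z := by
    intro c
    have hcR : ((c : ↥(Subgroup.centralizer ({z} : Set H))) : H) ∈ R := (memQ _).mp c.2
    constructor
    · intro hcc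
      apply b.cent _ hcR
      intro r hr
      have := Subgroup.mem_center_iff.mp hcc
        ⟨⟨r, hRC hr⟩, (memQ _).mpr hr⟩
      have e := congrArg (fun x : ↥(R.subgroupOf (Subgroup.centralizer ({z} : Set H))) =>
        ((x : ↥(Subgroup.centralizer ({z} : Set H))) : H)) this
      simpa using e.symm
    · intro h
      rw [Subgroup.mem_center_iff]
      intro d
      have hdR : ((d : ↥(Subgroup.centralizer ({z} : Set H))) : H) ∈ R := (memQ _).mp d.2
      apply Subtype.ext
      apply Subtype.ext
      show ((d : ↥(Subgroup.centralizer ({z} : Set H))) : H) *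
        ((c : ↥(Subgroup.centralizer ({z} : Set H))) : H) =
        ((c : ↥(Subgroup.centralizer ({z} : Set H))) : H) *
        ((d : ↥(Subgroup.centralizer ({z} : Set H))) : H)
      rcases h with h | h
      · rw [h, mul_one, one_mul]
      · rw [h]; exact b.R_comm _ hdR
  refine ⟨z, R.subgroupOf (Subgroup.centralizer ({z} : Set H)), hQn, ⟨b.z_ord, ?_, ?_, ?_, ?_⟩, ?_⟩
  · -- the generalized Fitting subgroup
    apply le_antisymm
    · apply Cfsg.Agent.Helper2.generalizedFittingSubgroup_le_of_centralizer_le
      · -- the Fitting subgroup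
        have hFn : (Cfsg.fittingSubgroup ↥(Subgroup.centralizer ({z} : Set H))).Normal :=
          Cfsg.Agent.Helper1.fittingSubgroup_normal
        have hFnil : Group.IsNilpotent
            ↥(Cfsg.fittingSubgroup ↥(Subgroup.centralizer ({z} : Set H))) :=
          Cfsg.Agent.Helper1.fittingSubgroup_isNilpotent
        have hmn : ((Cfsg.fittingSubgroup ↥(Subgroup.centralizer ({z} : Set H))).map π).Normal :=
          hFn.map π hπsurj
        rcases hs.eq_bot_or_eq_top_of_normal _ hmn with h | h
        · rw [hker]
          intro x hx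
          rw [MonoidHom.mem_ker]
          have : π x ∈ (Cfsg.fittingSubgroup ↥(Subgroup.centralizer ({z} : Set H))).map π :=
            ⟨x, hx, rfl⟩
          rw [h, Subgroup.mem_bot] at this
          exact this
        · exfalso
          apply not_nilpotent_of_simple hs hc
          have h1 : Function.Surjective
              (π.comp (Cfsg.fittingSubgroup ↥(Subgroup.centralizer ({z} : Set H))).subtype) := by
            intro g
            have hg : g ∈ (Cfsg.fittingSubgroup ↥(Subgroup.centralizer ({z} : Set H))).map π := by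
              rw [h]; exact Subgroup.mem_top _
            obtain ⟨x, hx, rfl⟩ := hg
            exact ⟨⟨x, hx⟩, rfl⟩
          exact Group.nilpotent_of_surjective _ h1
      · -- the centralizer
        intro c hcc
        rw [memQ]
        apply b.selfC _ ((memC _).mp c.2)
        intro r hr
        have := Subgroup.mem_centralizer_iff.mp hcc ⟨r, hRC hr⟩ ((memQ _).mpr hr)
        have e := congrArg Subtype.val this
        simpa using e.symm
    · have hnil : Group.IsNilpotent ↥(R.subgroupOf (Subgroup.centralizer ({z} : Set H))) := by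
        have : Fact (Nat.Prime 2) := ⟨Nat.prime_two⟩
        have hp : IsPGroup 2 ↥(R.subgroupOf (Subgroup.centralizer ({z} : Set H))) := by
          apply IsPGroup.of_card (n := 23)
          rw [Nat.card_congr (Subgroup.subgroupOfEquivOfLe hRC).toEquiv, b.card]
        exact hp.isNilpotent
      exact (Cfsg.Agent.Helper1.le_fittingSubgroup hQn hnil).trans
        Cfsg.Agent.Helper2.fittingSubgroup_le_generalizedFittingSubgroup
  · -- extraspecial
    have : Fact (Nat.Prime 2) := ⟨Nat.prime_two⟩
    have hIn : Cfsg.Agent.Helper3.Extra.InClass 2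
        ↥(R.subgroupOf (Subgroup.centralizer ({z} : Set H))) := by
      refine ⟨?_, ?_, ?_⟩
      · rw [Nat.card_eq_two_iff]
        refine ⟨⟨1, Subgroup.one_mem _⟩,
          ⟨⟨⟨z, hzC⟩, (memQ _).mpr b.z_mem⟩, (hcen _).mpr (Or.inr rfl)⟩, ?_, ?_⟩
        · intro e
          have e1 := congrArg (fun x : ↥(Subgroup.center
            ↥(R.subgroupOf (Subgroup.centralizer ({z} : Set H)))) =>
            (((x : ↥(R.subgroupOf (Subgroup.centralizer ({z} : Set H)))) :
              ↥(Subgroup.centralizer ({z} : Set H))) : H)) e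
          exact b.z_ne e1.symm
        · apply Set.eq_univ_of_forall
          intro x
          rcases (hcen x.1).mp x.2 with e | e
          · left
            apply Subtype.ext; apply Subtype.ext; apply Subtype.ext
            exact e
          · right
            apply Subtype.ext; apply Subtype.ext; apply Subtype.ext
            exact e
      · intro x y
        rw [hcen, commutatorElement_def]
        rcases b.comm _ ((memQ _).mp x.2) _ ((memQ _).mp y.2) with e | e
        · left; simpa using e
        · right; simpa using e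
      · intro x
        rw [hcen, pow_two]
        rcases b.sq _ ((memQ _).mp x.2) with e | e
        · left; simpa using e
        · right; simpa using e
    apply hIn.isExtraspecial
    rw [Nat.card_congr (Subgroup.subgroupOfEquivOfLe hRC).toEquiv, b.card]
    norm_num
  · rw [Nat.card_congr (Subgroup.subgroupOfEquivOfLe hRC).toEquiv, b.card]
  · obtain ⟨g, hg, hgz⟩ := b.nwc
    exact ⟨g, ⟨hRC hg, (memQ _).mpr hg⟩, hgz⟩
  · -- the identification with the second Conway group and the module
    let e : ↥(Subgroup.centralizer ({z} : Set H)) ⧸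
        R.subgroupOf (Subgroup.centralizer ({z} : Set H)) ≃* ↥Spor.Co2 :=
      (QuotientGroup.quotientMulEquivOfEq hker).trans
        (QuotientGroup.quotientKerEquivOfSurjective π hπsurj)
    have he : ∀ h : ↥(Subgroup.centralizer ({z} : Set H)), e (QuotientGroup.mk h) = π h :=
      fun h => rfl
    let xf : leechPerpU → H := fun v => Classical.choose (b.rep_total v)
    have hxf : ∀ v, Rep v (xf v) := fun v => Classical.choose_spec (b.rep_total v)
    have hxR : ∀ v, xf v ∈ R := fun v => b.rep_mem (hxf v)
    let qf : leechPerpU → ↥(R.subgroupOf (Subgroup.centralizer ({z} : Set H))) :=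
      fun v => ⟨⟨xf v, hRC (hxR v)⟩, (memQ _).mpr (hxR v)⟩
    have hqf : ∀ v, (((qf v : ↥(R.subgroupOf (Subgroup.centralizer ({z} : Set H)))) :
        ↥(Subgroup.centralizer ({z} : Set H))) : H) = xf v := fun v => rfl
    -- equality in the quotient by the centre
    have hmk : ∀ a c : ↥(R.subgroupOf (Subgroup.centralizer ({z} : Set H))),
        (QuotientGroup.mk a : ↥(R.subgroupOf (Subgroup.centralizer ({z} : Set H))) ⧸
          Subgroup.center ↥(R.subgroupOf (Subgroup.centralizer ({z} : Set H)))) =
          QuotientGroup.mk c ↔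
        ((c : ↥(Subgroup.centralizer ({z} : Set H))) : H) =
          ((a : ↥(Subgroup.centralizer ({z} : Set H))) : H) ∨
        ((c : ↥(Subgroup.centralizer ({z} : Set H))) : H) =
          ((a : ↥(Subgroup.centralizer ({z} : Set H))) : H) * z := by
      intro a c
      rw [QuotientGroup.eq, hcen]
      have e1 : (((a⁻¹ * c : ↥(R.subgroupOf (Subgroup.centralizer ({z} : Set H)))) :
          ↥(Subgroup.centralizer ({z} : Set H))) : H) =
          ((a : ↥(Subgroup.centralizer ({z} : Set H))) : H)⁻¹ *
          ((c : ↥(Subgroup.centralizer ({z} : Set H))) : H) := rfl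
      rw [e1]
      constructor
      · rintro (h | h)
        · left
          exact (inv_mul_eq_one.mp h).symm
        · right
          exact eq_mul_of_inv_mul_eq h
      · rintro (h | h)
        · left; rw [h]; group
        · right; rw [h]; group
    refine ⟨e, fun v => QuotientGroup.mk (qf v), ?_, ?_, ?_, ?_⟩
    · intro x y
      rw [← QuotientGroup.mk_mul, hmk]
      have h1 := b.rep_add (hxf x) (hxf y)
      rcases b.rep_uniq (hxf (x + y)) h1 with h | h
      · left; exact h
      · right; exact h
    · intro q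
      obtain ⟨q0, rfl⟩ := QuotientGroup.mk_surjective q
      obtain ⟨v, hv⟩ := b.rep_exists _ ((memQ _).mp q0.2)
      refine ⟨v, ?_⟩
      show (QuotientGroup.mk (qf v) : _ ⧸ _) = QuotientGroup.mk q0
      rw [hmk]
      exact b.rep_uniq (hxf v) hv
    · intro x
      rw [← b.rep_ker (hxf x)]
      show (QuotientGroup.mk (qf x) : _ ⧸ _) = 1 ↔ _
      rw [QuotientGroup.eq_one_iff, hcen]
    · intro h g hg x y hxy q hq
      rw [he, hπa] at hg
      have hL : Lift g (h : H) := hg ▸ hπ h
      have hq' : Rep x (((q : ↥(Subgroup.centralizer ({z} : Set H))) : H)) := by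
        rcases (hmk _ _).mp hq with h1 | h1
        · rw [h1]; exact hxf x
        · rw [h1]; exact b.rep_mul_z (hxf x)
      have hr := b.lift_rep hL hq' hxy
      rw [hmk]
      rcases b.rep_uniq (hxf y) hr with h1 | h1
      · left
        show (h : H) * ((q : ↥(Subgroup.centralizer ({z} : Set H))) : H) * (h : H)⁻¹ = xf y
        exact h1
      · right
        show (h : H) * ((q : ↥(Subgroup.centralizer ({z} : Set H))) : H) * (h : H)⁻¹ = xf y * z
        exact h1

end build

end Cfsg.Agent.Helper9.MonsterType
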