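import Mathlib
import Cfsg.Prelude.Def_MonsterType
import Cfsg.Agent.Lead.LargeSetting
import Cfsg.Agent.Helper9.Co2C.AbsA

/-!
Groups of Monster type: the element-wise data of the setting.

`Rep v x` says that the lattice vector `v` represents the element `x` of `Q` modulo the centre;
`Lift g h` says that the lattice automorphism `g` and the element `h` of the centralizer have the
same image in the first Conway group.
-/

set_option autoImplicit false

namespace Cfsg.Agent.Helper9.MonsterType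

open Cfsg Cfsg.Agent.Helper3.LargeX Cfsg.Agent.Lead.LargeQuot

section defs

variable {G : Type*} [Group G] {z : G} (Q : Subgroup (Subgroup.centralizer ({z} : Set G))) [Q.Normal]
  (e : (Subgroup.centralizer ({z} : Set G)) ⧸ Q ≃* Spor.Co1)
  (ψ : leechLattice → Q ⧸ Subgroup.center Q)

/-- The lattice vector `v` represents the element `x` of `Q` modulo the centre. -/
def Rep (v : leechLattice) (x : G) : Prop :=
  ∃ (hx : x ∈ Subgroup.centralizer ({z} : Set G))
    (hxQ : (⟨x, hx⟩ : Subgroup.centralizer ({z} : Set G)) ∈ Q),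
    ψ v = QuotientGroup.mk ⟨⟨x, hx⟩, hxQ⟩

/-- The lattice automorphism `g` and the element `h` of the centralizer have the same image in the
first Conway group. -/
def Lift (g : Co0) (h : G) : Prop :=
  ∃ hh : h ∈ Subgroup.centralizer ({z} : Set G),
    (QuotientGroup.mk g : Spor.Co1) = e (QuotientGroup.mk ⟨h, hh⟩)

end defs

/-- The element-wise data of a group of Monster type. -/
structure MT {G : Type*} [Group G] (z : G) (QG : Subgroup G) (Rep : leechLattice → G → Prop)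
    (Lift : Co0 → G → Prop) : Prop where
  lx : LX QG z
  sq : ∀ a ∈ QG, a * a = 1 ∨ a * a = z
  card : Nat.card QG = 2 ^ 25
  extra : IsExtraspecial 2 ↥QG
  nwc : ∃ g : G, g * z * g⁻¹ ∈ QG ∧ g * z * g⁻¹ ≠ z
  rep_mem : ∀ {v : leechLattice} {x : G}, Rep v x → x ∈ QG
  rep_exists : ∀ x ∈ QG, ∃ v, Rep v x
  rep_total : ∀ v, ∃ x, Rep v x
  rep_add : ∀ {v w : leechLattice} {x y : G}, Rep v x → Rep w y → Rep (v + w) (x * y)
  rep_dbl : ∀ {v : leechLattice} {x : G}, Rep v x → ((x = 1 ∨ x = z) ↔ ∃ w, v = w + w)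
  rep_mul_z : ∀ {v : leechLattice} {x : G}, Rep v x → Rep v (x * z)
  rep_uniq : ∀ {v : leechLattice} {x y : G}, Rep v x → Rep v y → y = x ∨ y = x * z
  lift_one : Lift 1 1
  lift_ker : ∀ {g : Co0} {h : G}, g ∈ Subgroup.center Co0 → h ∈ QG → Lift g h
  lift_mul : ∀ {g g' : Co0} {h h' : G}, Lift g h → Lift g' h' → Lift (g * g') (h * h')
  lift_inv : ∀ {g : Co0} {h : G}, Lift g h → Lift g⁻¹ h⁻¹
  lift_exists : ∀ g, ∃ h, Lift g h
  lift_exists' : ∀ h, h * z = z * h → ∃ g, Lift g h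
  lift_comm : ∀ {g : Co0} {h : G}, Lift g h → h * z = z * h
  lift_cen : ∀ {g : Co0} {h : G}, Lift g h → (h ∈ QG ↔ g ∈ Subgroup.center Co0)
  lift_rep : ∀ {g : Co0} {h : G} {v : leechLattice} {x : G}, Lift g h → Rep v x →
    Rep (g • v) (h * x * h⁻¹)

section build

variable {G : Type*} [Group G] [Finite G] {z : G}
  (Q : Subgroup (Subgroup.centralizer ({z} : Set G))) [Q.Normal]

omit [Finite G] [Q.Normal] in
theorem mem_map_iff (x : G) : x ∈ Q.map (Subgroup.centralizer ({z} : Set G)).subtype ↔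
    ∃ hx : x ∈ Subgroup.centralizer ({z} : Set G),
      (⟨x, hx⟩ : Subgroup.centralizer ({z} : Set G)) ∈ Q := by
  constructor
  · rintro ⟨y, hy, rfl⟩
    exact ⟨y.2, hy⟩
  · rintro ⟨hx, hxQ⟩
    exact ⟨⟨x, hx⟩, hxQ, rfl⟩

omit [Q.Normal] in
/-- The element-wise data of the extraspecial subgroup. -/
theorem setting_lx (w : ℕ) (h : IsExtraspecialCentralizerSetting z Q w) :
    LX (Q.map (Subgroup.centralizer ({z} : Set G)).subtype) z ∧
    (∀ a ∈ Q.map (Subgroup.centralizer ({z} : Set G)).subtype, a * a = 1 ∨ a * a = z) ∧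
    IsExtraspecial 2 ↥(Q.map (Subgroup.centralizer ({z} : Set G)).subtype) ∧
    Nat.card ↥(Q.map (Subgroup.centralizer ({z} : Set G)).subtype) = 2 ^ (2 * w + 1) ∧
    ∃ g : G, g * z * g⁻¹ ∈ Q.map (Subgroup.centralizer ({z} : Set G)).subtype ∧
      g * z * g⁻¹ ≠ z := by
  obtain ⟨hz, hF, hQ, hcard, g, ⟨hq, hgQ⟩, hgz⟩ := h
  set QG := Q.map (Subgroup.centralizer ({z} : Set G)).subtype with hQG
  have hQC : QG ≤ Subgroup.centralizer ({z} : Set G) := Subgroup.map_subtype_le Q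
  have hF' : (Cfsg.generalizedFittingSubgroup ↥(Subgroup.centralizer ({z} : Set G))).map
      (Subgroup.centralizer ({z} : Set G)).subtype = QG := by rw [hF]
  have eqv : ↥Q ≃* ↥QG :=
    Q.equivMapOfInjective (Subgroup.centralizer ({z} : Set G)).subtype
      (Subgroup.subtype_injective _)
  have hQ' : IsExtraspecial 2 ↥QG := Cfsg.Agent.Helper9.Co2C.isExtraspecial_congr eqv hQ
  have hzc : ∀ q ∈ QG, q * z = z * q := fun q hq =>
    Subgroup.mem_centralizer_singleton_iff.mp (hQC hq)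
  have hzQ : z ∈ QG := fstar_selfC z QG hF' z rfl (fun q hq => (hzc q hq).symm)
  have hsC : Subgroup.centralizer (QG : Set G) ≤ QG := by
    intro c hc
    rw [Subgroup.mem_centralizer_iff] at hc
    exact fstar_selfC z QG hF' c (hc z hzQ).symm (fun q hq => (hc q hq).symm)
  obtain ⟨hLX, hZ, hsq⟩ := lx_of_fstar z hz QG hQC hF' hQ' hzQ hsC
  refine ⟨hLX, hsq, hQ', ?_, g, ?_, hgz⟩
  · rw [← hcard]
    exact Nat.card_congr eqv.toEquiv.symm
  · exact (mem_map_iff Q _).mpr ⟨hq, hgQ⟩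

end build

section build2

variable {G : Type*} [Group G] [Finite G] {z : G}
  (Q : Subgroup (Subgroup.centralizer ({z} : Set G))) [Q.Normal]
  (e : (Subgroup.centralizer ({z} : Set G)) ⧸ Q ≃* Spor.Co1)
  (ψ : leechLattice → Q ⧸ Subgroup.center Q)

/-- The element-wise data of a group of Monster type, from the hypotheses. -/
theorem mt_of (hset : IsExtraspecialCentralizerSetting z Q 12) (hψ : IsLeechModTwoIso Q e ψ) :
    MT z (Q.map (Subgroup.centralizer ({z} : Set G)).subtype) (Rep Q ψ) (Lift Q e) := by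
  obtain ⟨hLX, hsq, hextra, hcard, hnwc⟩ := setting_lx Q 12 hset
  obtain ⟨hadd, hsurj, hker, hequiv⟩ := hψ
  set QG := Q.map (Subgroup.centralizer ({z} : Set G)).subtype with hQG
  have hmemH : ∀ x : G, x ∈ Subgroup.centralizer ({z} : Set G) ↔ x * z = z * x :=
    fun x => Subgroup.mem_centralizer_singleton_iff
  have hcoe : ∀ c : Q, ((c : Subgroup.centralizer ({z} : Set G)) : G) ∈ QG := fun c =>
    (mem_map_iff Q _).mpr ⟨(c : Subgroup.centralizer ({z} : Set G)).2, c.2⟩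
  -- the centre of Q
  have hcen : ∀ c : Q, c ∈ Subgroup.center Q ↔
      ((c : Subgroup.centralizer ({z} : Set G)) : G) = 1 ∨
      ((c : Subgroup.centralizer ({z} : Set G)) : G) = z := by
    intro c
    constructor
    · intro hc
      apply hLX.cent _ (hcoe c)
      intro b hb
      obtain ⟨hbH, hbQ⟩ := (mem_map_iff Q b).mp hb
      have := Subgroup.mem_center_iff.mp hc ⟨⟨b, hbH⟩, hbQ⟩
      have e1 := congrArg (fun t : Q => ((t : Subgroup.centralizer ({z} : Set G)) : G)) this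
      exact e1.symm
    · intro hc
      rw [Subgroup.mem_center_iff]
      intro q
      apply Subtype.ext
      apply Subtype.ext
      show ((q : Subgroup.centralizer ({z} : Set G)) : G) *
        ((c : Subgroup.centralizer ({z} : Set G)) : G) =
        ((c : Subgroup.centralizer ({z} : Set G)) : G) *
        ((q : Subgroup.centralizer ({z} : Set G)) : G)
      rcases hc with hc | hc
      · rw [hc, mul_one, one_mul]
      · rw [hc]
        exact hLX.z_comm _ (hcoe q)
  have hzH : z ∈ Subgroup.centralizer ({z} : Set G) := (hmemH z).mpr rfl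
  have hzQ : (⟨z, hzH⟩ : Subgroup.centralizer ({z} : Set G)) ∈ Q := by
    obtain ⟨h1, h2⟩ := (mem_map_iff Q z).mp hLX.z_mem
    exact h2
  have hzcen : (⟨⟨z, hzH⟩, hzQ⟩ : Q) ∈ Subgroup.center Q := (hcen _).mpr (Or.inr rfl)
  refine
    { lx := hLX
      sq := hsq
      card := by rw [hcard]
      extra := hextra
      nwc := hnwc
      rep_mem := ?_
      rep_exists := ?_
      rep_total := ?_
      rep_add := ?_
      rep_dbl := ?_
      rep_mul_z := ?_
      rep_uniq := ?_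
      lift_one := ?_
      lift_ker := ?_
      lift_mul := ?_
      lift_inv := ?_
      lift_exists := ?_
      lift_exists' := ?_
      lift_comm := ?_
      lift_cen := ?_
      lift_rep := ?_ }
  · rintro v x ⟨hx, hxQ, -⟩
    exact (mem_map_iff Q x).mpr ⟨hx, hxQ⟩
  · intro x hx
    obtain ⟨hxH, hxQ⟩ := (mem_map_iff Q x).mp hx
    obtain ⟨v, hv⟩ := hsurj (QuotientGroup.mk ⟨⟨x, hxH⟩, hxQ⟩)
    exact ⟨v, hxH, hxQ, hv⟩
  · intro v
    obtain ⟨q, hq⟩ := QuotientGroup.mk_surjective (ψ v)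
    exact ⟨((q : Subgroup.centralizer ({z} : Set G)) : G),
      (q : Subgroup.centralizer ({z} : Set G)).2, q.2, hq.symm⟩
  · rintro v w x y ⟨hx, hxQ, hv⟩ ⟨hy, hyQ, hw⟩
    refine ⟨(Subgroup.centralizer ({z} : Set G)).mul_mem hx hy, Q.mul_mem hxQ hyQ, ?_⟩
    rw [hadd, hv, hw]
    rfl
  · rintro v x ⟨hx, hxQ, hv⟩
    rw [← hker v, hv, QuotientGroup.eq_one_iff, hcen]
  · rintro v x ⟨hx, hxQ, hv⟩
    refine ⟨(Subgroup.centralizer ({z} : Set G)).mul_mem hx hzH, Q.mul_mem hxQ hzQ, ?_⟩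
    rw [hv]
    have h1 : (QuotientGroup.mk (⟨⟨z, hzH⟩, hzQ⟩ : Q) : Q ⧸ Subgroup.center Q) = 1 :=
      (QuotientGroup.eq_one_iff _).mpr hzcen
    have h2 : (QuotientGroup.mk ((⟨⟨x, hx⟩, hxQ⟩ : Q) * ⟨⟨z, hzH⟩, hzQ⟩) :
        Q ⧸ Subgroup.center Q) = QuotientGroup.mk (⟨⟨x, hx⟩, hxQ⟩ : Q) := by
      rw [QuotientGroup.mk_mul, h1, mul_one]
    exact h2.symm
  · rintro v x y ⟨hx, hxQ, hv⟩ ⟨hy, hyQ, hw⟩
    rw [hv] at hw
    have h1 := QuotientGroup.eq.mp hw
    rcases (hcen _).mp h1 with h2 | h2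
    · left
      have h3 : x⁻¹ * y = 1 := h2
      exact (inv_mul_eq_one.mp h3).symm
    · right
      have h3 : x⁻¹ * y = z := h2
      rw [← h3]; group
  · exact ⟨(Subgroup.centralizer ({z} : Set G)).one_mem, by
      have : (QuotientGroup.mk (⟨1, (Subgroup.centralizer ({z} : Set G)).one_mem⟩ :
        Subgroup.centralizer ({z} : Set G)) : Subgroup.centralizer ({z} : Set G) ⧸ Q) = 1 := rfl
      rw [this, map_one]; rfl⟩
  · intro g h hg hh
    obtain ⟨hhH, hhQ⟩ := (mem_map_iff Q h).mp hh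
    refine ⟨hhH, ?_⟩
    have h1 : (QuotientGroup.mk g : Spor.Co1) = 1 := (QuotientGroup.eq_one_iff _).mpr hg
    have h2 : (QuotientGroup.mk (⟨h, hhH⟩ : Subgroup.centralizer ({z} : Set G)) :
        Subgroup.centralizer ({z} : Set G) ⧸ Q) = 1 := (QuotientGroup.eq_one_iff _).mpr hhQ
    rw [h1, h2, map_one]
  · rintro g g' h h' ⟨hh, hg⟩ ⟨hh', hg'⟩
    refine ⟨(Subgroup.centralizer ({z} : Set G)).mul_mem hh hh', ?_⟩
    have : (QuotientGroup.mk (⟨h * h', (Subgroup.centralizer ({z} : Set G)).mul_mem hh hh'⟩ :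
        Subgroup.centralizer ({z} : Set G)) : Subgroup.centralizer ({z} : Set G) ⧸ Q) =
        QuotientGroup.mk ⟨h, hh⟩ * QuotientGroup.mk ⟨h', hh'⟩ := rfl
    rw [this, map_mul, ← hg, ← hg']
    rfl
  · rintro g h ⟨hh, hg⟩
    refine ⟨(Subgroup.centralizer ({z} : Set G)).inv_mem hh, ?_⟩
    have : (QuotientGroup.mk (⟨h⁻¹, (Subgroup.centralizer ({z} : Set G)).inv_mem hh⟩ :
        Subgroup.centralizer ({z} : Set G)) : Subgroup.centralizer ({z} : Set G) ⧸ Q) =
        (QuotientGroup.mk ⟨h, hh⟩)⁻¹ := rfl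
    rw [this, map_inv, ← hg]
    rfl
  · intro g
    obtain ⟨h, hh⟩ := QuotientGroup.mk_surjective (e.symm (QuotientGroup.mk g))
    refine ⟨(h : G), h.2, ?_⟩
    have : (⟨(h : G), h.2⟩ : Subgroup.centralizer ({z} : Set G)) = h := rfl
    rw [this, hh, MulEquiv.apply_symm_apply]
  · intro h hh
    have hhH := (hmemH h).mpr hh
    obtain ⟨g, hg⟩ := QuotientGroup.mk_surjective (e (QuotientGroup.mk ⟨h, hhH⟩))
    exact ⟨g, hhH, hg⟩
  · rintro g h ⟨hh, -⟩
    exact (hmemH h).mp hh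
  · rintro g h ⟨hh, hg⟩
    rw [mem_map_iff]
    constructor
    · rintro ⟨hh', hQ⟩
      have h1 : (QuotientGroup.mk (⟨h, hh⟩ : Subgroup.centralizer ({z} : Set G)) :
          Subgroup.centralizer ({z} : Set G) ⧸ Q) = 1 := (QuotientGroup.eq_one_iff _).mpr hQ
      rw [h1, map_one] at hg
      exact (QuotientGroup.eq_one_iff _).mp hg
    · intro hc
      have h1 : (QuotientGroup.mk g : Spor.Co1) = 1 := (QuotientGroup.eq_one_iff _).mpr hc
      rw [h1] at hg
      have h2 : (QuotientGroup.mk (⟨h, hh⟩ : Subgroup.centralizer ({z} : Set G)) :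
          Subgroup.centralizer ({z} : Set G) ⧸ Q) = 1 := by
        apply e.injective
        rw [map_one]; exact hg.symm
      exact ⟨hh, (QuotientGroup.eq_one_iff _).mp h2⟩
  · rintro g h v x ⟨hh, hg⟩ ⟨hx, hxQ, hv⟩
    have := hequiv ⟨h, hh⟩ g hg v ⟨⟨x, hx⟩, hxQ⟩ hv
    exact ⟨_, _, this⟩

end build2

end Cfsg.Agent.Helper9.MonsterType
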