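import Mathlib
import Cfsg.Agent.Helper9.MonsterType.Setup
import Cfsg.Agent.Helper9.Leech.QuadForm

/-!
Groups of Monster type: the squaring map on `Q` is the quadratic form of the Leech lattice
modulo 2.
-/

set_option autoImplicit false

namespace Cfsg.Agent.Helper9.MonsterType

open Cfsg Cfsg.Agent.Helper3.LargeX Cfsg.Agent.Helper9.Leech

section general

variable {G : Type*} [Group G]

theorem sq_mul_of_comm {a b : G} (h : a * b = b * a) : (a * b) * (a * b) = (a * a) * (b * b) := by
  calc (a * b) * (a * b) = a * (b * a) * b := by group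
    _ = a * (a * b) * b := by rw [h]
    _ = (a * a) * (b * b) := by group

theorem sq_mul_of_anti {z a b : G} (hz2 : z * z = 1) (haz : a * z = z * a)
    (hab : a * b * a⁻¹ = z * b) : (a * b) * (a * b) = z * ((a * a) * (b * b)) := by
  have e0 : a * b = z * b * a := by
    calc a * b = (a * b * a⁻¹) * a := by group
      _ = z * b * a := by rw [hab]
  have e1 : b * a = z * (a * b) := by
    calc b * a = (z * z) * (b * a) := by rw [hz2, one_mul]
      _ = z * (z * b * a) := by group
      _ = z * (a * b) := by rw [e0]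
  calc (a * b) * (a * b) = a * (b * a) * b := by group
    _ = a * (z * (a * b)) * b := by rw [e1]
    _ = (a * z) * a * b * b := by group
    _ = z * a * a * b * b := by rw [haz]
    _ = z * ((a * a) * (b * b)) := by group

open Classical in
/-- `0` if `a` squares to the identity, `1` otherwise. -/
noncomputable def sgm (a : G) : ZMod 2 := if a * a = 1 then 0 else 1

open Classical in
/-- `0` if `a` and `b` commute, `1` otherwise. -/
noncomputable def bt (a b : G) : ZMod 2 := if a * b = b * a then 0 else 1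

theorem sgm_of_one {a : G} (h : a * a = 1) : sgm a = 0 := by
  unfold sgm; rw [if_pos h]

theorem sgm_of_ne {a : G} (h : a * a ≠ 1) : sgm a = 1 := by
  unfold sgm; rw [if_neg h]

theorem bt_of_comm {a b : G} (h : a * b = b * a) : bt a b = 0 := by
  unfold bt; rw [if_pos h]

theorem bt_of_ne {a b : G} (h : a * b ≠ b * a) : bt a b = 1 := by
  unfold bt; rw [if_neg h]

theorem sgm_conj (h x : G) : sgm (h * x * h⁻¹) = sgm x := by
  have e : (h * x * h⁻¹) * (h * x * h⁻¹) = h * (x * x) * h⁻¹ := by group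
  by_cases hx : x * x = 1
  · rw [sgm_of_one hx, sgm_of_one (by rw [e, hx]; group)]
  · rw [sgm_of_ne hx, sgm_of_ne]
    intro h1
    apply hx
    rw [e] at h1
    calc x * x = h⁻¹ * (h * (x * x) * h⁻¹) * h := by group
      _ = 1 := by rw [h1]; group

variable {z : G} {QG : Subgroup G}

theorem sgm_mul (h : LX QG z) (hsq : ∀ a ∈ QG, a * a = 1 ∨ a * a = z) {a b : G}
    (ha : a ∈ QG) (hb : b ∈ QG) : sgm (a * b) = sgm a + sgm b + bt a b := by
  have hz1 := h.z_ne
  have hz2 := h.z_sq
  have sval : ∀ x : G, (x * x = 1 → sgm x = 0) ∧ (x * x = z → sgm x = 1) := by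
    intro x
    exact ⟨fun hx => sgm_of_one hx, fun hx => sgm_of_ne (by rw [hx]; exact hz1)⟩
  rcases h.comm_or ha hb with hc | hc
  · have e := sq_mul_of_comm hc
    rw [bt_of_comm hc]
    rcases hsq a ha with h1 | h1 <;> rcases hsq b hb with h2 | h2
    · rw [(sval a).1 h1, (sval b).1 h2, (sval (a * b)).1 (by rw [e, h1, h2, one_mul])]; decide
    · rw [(sval a).1 h1, (sval b).2 h2, (sval (a * b)).2 (by rw [e, h1, h2, one_mul])]; decide
    · rw [(sval a).2 h1, (sval b).1 h2, (sval (a * b)).2 (by rw [e, h1, h2, mul_one])]; decide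
    · rw [(sval a).2 h1, (sval b).2 h2, (sval (a * b)).1 (by rw [e, h1, h2, hz2])]; decide
  · have e := sq_mul_of_anti hz2 (h.z_comm a ha) hc
    have hne : a * b ≠ b * a := h.not_comm_of_conj hc
    rw [bt_of_ne hne]
    rcases hsq a ha with h1 | h1 <;> rcases hsq b hb with h2 | h2
    · rw [(sval a).1 h1, (sval b).1 h2,
        (sval (a * b)).2 (by rw [e, h1, h2, one_mul, mul_one])]; decide
    · rw [(sval a).1 h1, (sval b).2 h2,
        (sval (a * b)).1 (by rw [e, h1, h2, one_mul, hz2])]; decide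
    · rw [(sval a).2 h1, (sval b).1 h2,
        (sval (a * b)).1 (by rw [e, h1, h2, mul_one, hz2])]; decide
    · rw [(sval a).2 h1, (sval b).2 h2,
        (sval (a * b)).2 (by rw [e, h1, h2, hz2, mul_one])]; decide

theorem bt_mul (h : LX QG z) {a b c : G} (ha : a ∈ QG) (hb : b ∈ QG) (hc : c ∈ QG) :
    bt (a * b) c = bt a c + bt b c := by
  have hz2 := h.z_sq
  rcases h.comm_or hc ha with h1 | h1 <;> rcases h.comm_or hc hb with h2 | h2
  · rw [bt_of_comm h1.symm, bt_of_comm h2.symm, bt_of_comm]
    · decide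
    · calc a * b * c = a * (b * c) := by group
        _ = a * (c * b) := by rw [h2]
        _ = (a * c) * b := by group
        _ = (c * a) * b := by rw [h1]
        _ = c * (a * b) := by group
  · have hne2 : b * c ≠ c * b := fun e => h.not_comm_of_conj h2 e.symm
    have e : c * (a * b) * c⁻¹ = z * (a * b) := by
      calc c * (a * b) * c⁻¹ = (c * a) * c⁻¹ * (c * b * c⁻¹) := by group
        _ = (a * c) * c⁻¹ * (z * b) := by rw [h1, h2]
        _ = (a * z) * b := by group
        _ = z * a * b := by rw [h.z_comm a ha]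
        _ = z * (a * b) := by group
    have hne : a * b * c ≠ c * (a * b) := fun e' => h.not_comm_of_conj e e'.symm
    rw [bt_of_comm h1.symm, bt_of_ne hne2, bt_of_ne hne]; decide
  · have hne1 : a * c ≠ c * a := fun e => h.not_comm_of_conj h1 e.symm
    have e : c * (a * b) * c⁻¹ = z * (a * b) := by
      calc c * (a * b) * c⁻¹ = (c * a * c⁻¹) * (c * b) * c⁻¹ := by group
        _ = (z * a) * (b * c) * c⁻¹ := by rw [h1, h2]
        _ = z * (a * b) := by group
    have hne : a * b * c ≠ c * (a * b) := fun e' => h.not_comm_of_conj e e'.symm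
    rw [bt_of_ne hne1, bt_of_comm h2.symm, bt_of_ne hne]; decide
  · have hne1 : a * c ≠ c * a := fun e => h.not_comm_of_conj h1 e.symm
    have hne2 : b * c ≠ c * b := fun e => h.not_comm_of_conj h2 e.symm
    have e : c * (a * b) * c⁻¹ = a * b := by
      calc c * (a * b) * c⁻¹ = (c * a * c⁻¹) * (c * b * c⁻¹) := by group
        _ = (z * a) * (z * b) := by rw [h1, h2]
        _ = z * (a * z) * b := by group
        _ = z * (z * a) * b := by rw [h.z_comm a ha]
        _ = (z * z) * (a * b) := by group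
        _ = a * b := by rw [hz2, one_mul]
    have hcomm : a * b * c = c * (a * b) := by
      calc a * b * c = (c * (a * b) * c⁻¹) * c := by rw [e]
        _ = c * (a * b) := by group
    rw [bt_of_ne hne1, bt_of_ne hne2, bt_of_comm hcomm]; decide

end general

section mt

variable {G : Type*} [Group G] {z : G} {QG : Subgroup G} {Rep : leechLattice → G → Prop}
  {Lift : Co0 → G → Prop}

namespace MT

theorem rep_dbl_one (m : MT z QG Rep Lift) (w : leechLattice) : Rep (w + w) 1 := by
  obtain ⟨x, hx⟩ := m.rep_total (w + w)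
  rcases (m.rep_dbl hx).mpr ⟨w, rfl⟩ with h | h
  · rw [h] at hx; exact hx
  · have := m.rep_mul_z hx
    rw [h, m.lx.z_sq] at this
    exact this

theorem rep_congr (m : MT z QG Rep Lift) {v : leechLattice} {x : G} (h : Rep v x)
    (w : leechLattice) : Rep (v + (w + w)) x := by
  have := m.rep_add h (m.rep_dbl_one w)
  rwa [mul_one] at this

theorem rep_zero_one (m : MT z QG Rep Lift) : Rep 0 1 := by
  have := m.rep_dbl_one 0
  rwa [add_zero] at this

theorem rep_zero_z (m : MT z QG Rep Lift) : Rep 0 z := by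
  have := m.rep_mul_z m.rep_zero_one
  rwa [one_mul] at this

open Classical in
/-- The quadratic form read off from the squaring map. -/
noncomputable def Fq (Rep : leechLattice → G → Prop) (v : leechLattice) : ZMod 2 :=
  if ∃ x, Rep v x ∧ x * x = 1 then 0 else 1

theorem Fq_eq (m : MT z QG Rep Lift) {v : leechLattice} {x : G} (h : Rep v x) :
    Fq Rep v = sgm x := by
  by_cases hx : x * x = 1
  · rw [sgm_of_one hx]
    unfold Fq
    rw [if_pos ⟨x, h, hx⟩]
  · rw [sgm_of_ne hx]
    unfold Fq
    rw [if_neg]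
    rintro ⟨y, hy, hy1⟩
    rcases m.rep_uniq h hy with e | e
    · rw [e] at hy1; exact hx hy1
    · apply hx
      have hxz : x * z = z * x := m.lx.z_comm x (m.rep_mem h)
      have : x * z * (x * z) = x * x := by
        calc x * z * (x * z) = x * (z * x) * z := by group
          _ = x * (x * z) * z := by rw [hxz]
          _ = x * x * (z * z) := by group
          _ = x * x := by rw [m.lx.z_sq, mul_one]
      rw [e, this] at hy1
      exact hy1

theorem Fq_main (m : MT z QG Rep Lift) (v : leechLattice) :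
    Fq Rep v = ((sqNorm (v : GolayPt → ℤ) / 16 : ℤ) : ZMod 2) := by
  apply quad_unique (Fq Rep)
  · intro v w
    obtain ⟨x, hx⟩ := m.rep_total v
    rw [m.Fq_eq hx, m.Fq_eq (m.rep_congr hx w)]
  · intro u v w
    obtain ⟨a, ha⟩ := m.rep_total u
    obtain ⟨b, hb⟩ := m.rep_total v
    obtain ⟨c, hc⟩ := m.rep_total w
    have haQ := m.rep_mem ha
    have hbQ := m.rep_mem hb
    have hcQ := m.rep_mem hc
    rw [m.Fq_eq ha, m.Fq_eq hb, m.Fq_eq hc, m.Fq_eq (m.rep_add ha hb),
      m.Fq_eq (m.rep_add ha hc), m.Fq_eq (m.rep_add hb hc),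
      m.Fq_eq (m.rep_add (m.rep_add ha hb) hc),
      sgm_mul m.lx m.sq (QG.mul_mem haQ hbQ) hcQ, bt_mul m.lx haQ hbQ hcQ,
      sgm_mul m.lx m.sq haQ hbQ, sgm_mul m.lx m.sq haQ hcQ, sgm_mul m.lx m.sq hbQ hcQ]
    generalize sgm a = p1
    generalize sgm b = p2
    generalize sgm c = p3
    generalize bt a b = p4
    generalize bt a c = p5
    generalize bt b c = p6
    revert p1 p2 p3 p4 p5 p6
    decide
  · intro g v
    obtain ⟨x, hx⟩ := m.rep_total v
    obtain ⟨h, hh⟩ := m.lift_exists g
    rw [m.Fq_eq hx, m.Fq_eq (m.lift_rep hh hx), sgm_conj]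
  · obtain ⟨g, hgQ, hgz⟩ := m.nwc
    have hg1 : g * z * g⁻¹ ≠ 1 := (m.lx.conj g).z_ne
    obtain ⟨q, hq, hqs⟩ := m.lx.exists_noncomm hgQ hg1 hgz
    have hne : q * (g * z * g⁻¹) ≠ (g * z * g⁻¹) * q := m.lx.not_comm_of_conj hqs
    have h1 := sgm_mul m.lx m.sq hq hgQ
    rw [bt_of_ne hne] at h1
    by_contra hcon
    push Not at hcon
    obtain ⟨v1, hv1⟩ := m.rep_exists q hq
    obtain ⟨v2, hv2⟩ := m.rep_exists _ hgQ
    have e1 := hcon v1
    have e2 := hcon v2
    have e3 := hcon (v1 + v2)
    rw [m.Fq_eq hv1] at e1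
    rw [m.Fq_eq hv2] at e2
    rw [m.Fq_eq (m.rep_add hv1 hv2)] at e3
    rw [e1, e2, e3] at h1
    revert h1
    decide

theorem rep_sq (m : MT z QG Rep Lift) {v : leechLattice} {x : G} (h : Rep v x) :
    x * x = 1 ↔ ((sqNorm (v : GolayPt → ℤ) / 16 : ℤ) : ZMod 2) = 0 := by
  rw [← m.Fq_main v, m.Fq_eq h]
  constructor
  · intro hx; exact sgm_of_one hx
  · intro hx
    by_contra hne
    rw [sgm_of_ne hne] at hx
    revert hx
    decide

theorem rep_sq32 (m : MT z QG Rep Lift) {v : leechLattice} {x : G} (h : Rep v x)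
    (hv : sqNorm (v : GolayPt → ℤ) = 32) : x * x = 1 := by
  rw [m.rep_sq h, hv]; decide

theorem rep_sq64 (m : MT z QG Rep Lift) {v : leechLattice} {x : G} (h : Rep v x)
    (hv : sqNorm (v : GolayPt → ℤ) = 64) : x * x = 1 := by
  rw [m.rep_sq h, hv]; decide

theorem rep_sq48 (m : MT z QG Rep Lift) {v : leechLattice} {x : G} (h : Rep v x)
    (hv : sqNorm (v : GolayPt → ℤ) = 48) : x * x = z := by
  rcases m.sq x (m.rep_mem h) with h1 | h1
  · exfalso
    rw [m.rep_sq h, hv] at h1
    revert h1
    decide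
  · exact h1

end MT

end mt

end Cfsg.Agent.Helper9.MonsterType
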