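import Mathlib
import Cfsg.Agent.Helper9.MonsterType.Quad
import Cfsg.Agent.Helper9.Leech.Count64
import Cfsg.Agent.Helper9.Leech.Trans32
import Cfsg.Agent.Helper9.Leech.Trans48
import Cfsg.Agent.Helper9.Leech.Trans64

/-!
Groups of Monster type: the orbits of the centralizer on `Q`.
-/

set_option autoImplicit false

namespace Cfsg.Agent.Helper9.MonsterType

open Cfsg Cfsg.Agent.Helper3.LargeX Cfsg.Agent.Helper9.Leech

theorem sqNorm_zero' : sqNorm ((0 : leechLattice) : GolayPt → ℤ) = 0 := by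
  unfold sqNorm
  apply Finset.sum_eq_zero
  intro i _
  simp

theorem sqNorm_double (u : leechLattice) :
    sqNorm ((u + u : leechLattice) : GolayPt → ℤ) = 4 * sqNorm (u : GolayPt → ℤ) := by
  have : ((u + u : leechLattice) : GolayPt → ℤ) = 2 • (u : GolayPt → ℤ) := by
    rw [AddSubgroup.coe_add, two_smul]
  rw [this, sqNorm_two_smul]

theorem norm_cases (v : leechLattice) (hv : sqNorm (v : GolayPt → ℤ) ≤ 64) :
    v = 0 ∨ sqNorm (v : GolayPt → ℤ) = 32 ∨ sqNorm (v : GolayPt → ℤ) = 48 ∨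
      sqNorm (v : GolayPt → ℤ) = 64 := by
  by_cases h0 : v = 0
  · exact Or.inl h0
  · right
    have hmem := (mem_leechLattice_iff _).mp v.2
    have h1 := sixteen_dvd_sqNorm hmem
    have h2 : 32 ≤ sqNorm (v : GolayPt → ℤ) := by
      apply thirtytwo_le_sqNorm hmem
      intro h
      apply h0
      exact Subtype.ext h
    omega

theorem not_double {w : leechLattice} (h0 : 0 < sqNorm (w : GolayPt → ℤ))
    (h1 : sqNorm (w : GolayPt → ℤ) < 128) : ¬ ∃ u : leechLattice, w = u + u := by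
  rintro ⟨u, rfl⟩
  rw [sqNorm_double] at h0 h1
  rcases norm_cases u (by omega) with h | h | h | h
  · rw [h, sqNorm_zero'] at h0; omega
  · omega
  · omega
  · omega

section mt

variable {G : Type*} [Group G] {z : G} {QG : Subgroup G} {Rep : leechLattice → G → Prop}
  {Lift : Co0 → G → Prop}

namespace MT

/-- Every non-central element of `Q` is represented by a short vector. -/
theorem rep_short (m : MT z QG Rep Lift) {x : G} (hx : x ∈ QG) (hx1 : x ≠ 1) (hxz : x ≠ z) :
    ∃ v, Rep v x ∧ (sqNorm (v : GolayPt → ℤ) = 32 ∨ sqNorm (v : GolayPt → ℤ) = 48 ∨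
      sqNorm (v : GolayPt → ℤ) = 64) := by
  obtain ⟨v0, hv0⟩ := m.rep_exists x hx
  obtain ⟨y, hy, hyn, w, hw, hyw⟩ := classes_rep (v0 : GolayPt → ℤ) v0.2
  have e : (⟨y, hy⟩ : leechLattice) = v0 + ((-⟨w, hw⟩ : leechLattice) + (-⟨w, hw⟩)) := by
    apply Subtype.ext
    rw [AddSubgroup.coe_add, AddSubgroup.coe_add, AddSubgroup.coe_neg]
    show y = (v0 : GolayPt → ℤ) + (-w + -w)
    have : (v0 : GolayPt → ℤ) = y + 2 • w := by rw [← hyw]; abel
    rw [this, two_smul]; abel
  have hrep : Rep ⟨y, hy⟩ x := by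
    rw [e]; exact m.rep_congr hv0 _
  refine ⟨⟨y, hy⟩, hrep, ?_⟩
  rcases norm_cases ⟨y, hy⟩ hyn with h | h | h | h
  · exfalso
    rw [h] at hrep
    rcases (m.rep_dbl hrep).mpr ⟨0, by rw [add_zero]⟩ with h1 | h1
    · exact hx1 h1
    · exact hxz h1
  · exact Or.inl h
  · exact Or.inr (Or.inl h)
  · exact Or.inr (Or.inr h)

theorem rep_cong (m : MT z QG Rep Lift) {v v' : leechLattice} {x : G} (h : Rep v x)
    (h' : Rep v' x) : ∃ u ∈ leechLattice, (v : GolayPt → ℤ) - (v' : GolayPt → ℤ) = 2 • u := by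
  have h2 := m.rep_add h h'
  have h3 : x * x = 1 ∨ x * x = z := m.sq x (m.rep_mem h)
  obtain ⟨w, hw⟩ := (m.rep_dbl h2).mp h3
  refine ⟨(w : GolayPt → ℤ) - (v' : GolayPt → ℤ), leechLattice.sub_mem w.2 v'.2, ?_⟩
  have e := congrArg (fun t : leechLattice => (t : GolayPt → ℤ)) hw
  simp only [AddSubgroup.coe_add] at e
  rw [two_smul]
  have : (v : GolayPt → ℤ) = (w : GolayPt → ℤ) + (w : GolayPt → ℤ) - (v' : GolayPt → ℤ) := by
    rw [← e]; abel
  rw [this]; abel

/-- The squared length of a short representative is determined. -/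
theorem rep_norm_unique (m : MT z QG Rep Lift) {v v' : leechLattice} {x : G} (h : Rep v x)
    (h' : Rep v' x) (hv : sqNorm (v : GolayPt → ℤ) ≤ 64) (hv' : sqNorm (v' : GolayPt → ℤ) ≤ 64) :
    sqNorm (v : GolayPt → ℤ) = sqNorm (v' : GolayPt → ℤ) :=
  (congruent_short' _ _ v.2 v'.2 hv hv' (m.rep_cong h h')).1

theorem rep_pm (m : MT z QG Rep Lift) {v v' : leechLattice} {x : G} (h : Rep v x)
    (h' : Rep v' x) (hv : sqNorm (v : GolayPt → ℤ) = 32) (hv' : sqNorm (v' : GolayPt → ℤ) = 32) :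
    v' = v ∨ v' = -v := by
  rcases (congruent_short' _ _ v.2 v'.2 (by omega) (by omega) (m.rep_cong h h')).2 (by omega)
    with e | e
  · left; exact Subtype.ext e
  · right; apply Subtype.ext; rw [e]; rfl

theorem rep_not_central (m : MT z QG Rep Lift) {v : leechLattice} {x : G} (h : Rep v x)
    (h0 : 0 < sqNorm (v : GolayPt → ℤ)) (h1 : sqNorm (v : GolayPt → ℤ) < 128) :
    x ≠ 1 ∧ x ≠ z := by
  have := not_double h0 h1
  rw [← m.rep_dbl h] at this
  push Not at this
  exact this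

/-- Elements of `Q` represented by vectors in one orbit of the lattice automorphism group are
conjugate under the centralizer. -/
theorem conj_of_orbit (m : MT z QG Rep Lift) {v w : leechLattice} {x y : G} (hx : Rep v x)
    (hy : Rep w y) (h0 : 0 < sqNorm (w : GolayPt → ℤ)) (h1 : sqNorm (w : GolayPt → ℤ) < 128)
    (g : Co0) (hg : g • v = w) : ∃ h : G, h * z = z * h ∧ h * x * h⁻¹ = y := by
  obtain ⟨h, hh⟩ := m.lift_exists g
  have hr := m.lift_rep hh hx
  rw [hg] at hr
  have hhz := m.lift_comm hh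
  rcases m.rep_uniq hr hy with e | e
  · exact ⟨h, hhz, e.symm⟩
  · obtain ⟨hn1, hnz⟩ := m.rep_not_central hr h0 h1
    obtain ⟨q, hq, hqx⟩ := m.lx.exists_noncomm (m.rep_mem hr) hn1 hnz
    refine ⟨q * h, ?_, ?_⟩
    · calc q * h * z = q * (h * z) := by group
        _ = q * (z * h) := by rw [hhz]
        _ = (q * z) * h := by group
        _ = (z * q) * h := by rw [m.lx.z_comm q hq]
        _ = z * (q * h) := by group
    · calc q * h * x * (q * h)⁻¹ = q * (h * x * h⁻¹) * q⁻¹ := by group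
        _ = z * (h * x * h⁻¹) := hqx
        _ = (h * x * h⁻¹) * z := (m.lx.z_comm _ (m.rep_mem hr)).symm
        _ = y := e.symm

theorem conj32 (m : MT z QG Rep Lift) {v w : leechLattice} {x y : G} (hx : Rep v x)
    (hy : Rep w y) (hv : sqNorm (v : GolayPt → ℤ) = 32) (hw : sqNorm (w : GolayPt → ℤ) = 32) :
    ∃ h : G, h * z = z * h ∧ h * x * h⁻¹ = y := by
  obtain ⟨g, hg⟩ := trans32 v w hv hw
  exact m.conj_of_orbit hx hy (by omega) (by omega) g hg

theorem conj48 (m : MT z QG Rep Lift) {v w : leechLattice} {x y : G} (hx : Rep v x)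
    (hy : Rep w y) (hv : sqNorm (v : GolayPt → ℤ) = 48) (hw : sqNorm (w : GolayPt → ℤ) = 48) :
    ∃ h : G, h * z = z * h ∧ h * x * h⁻¹ = y := by
  obtain ⟨g, hg⟩ := trans48 v w hv hw
  exact m.conj_of_orbit hx hy (by omega) (by omega) g hg

theorem conj64 (m : MT z QG Rep Lift) {v w : leechLattice} {x y : G} (hx : Rep v x)
    (hy : Rep w y) (hv : sqNorm (v : GolayPt → ℤ) = 64) (hw : sqNorm (w : GolayPt → ℤ) = 64) :
    ∃ h : G, h * z = z * h ∧ h * x * h⁻¹ = y := by
  obtain ⟨g, hg⟩ := trans64 v w hv hw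
  exact m.conj_of_orbit hx hy (by omega) (by omega) g hg

end MT

end mt

end Cfsg.Agent.Helper9.MonsterType
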