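import Mathlib
import Cfsg.Agent.Helper9.MonsterType.Orbits
import Cfsg.Agent.Helper9.Leech.Co2Simple
import Cfsg.Agent.Helper9.Leech.Co1C

/-!
Groups of Monster type: a conjugate of `z` in `Q` other than `z` is not represented by a vector of
minimal length.
-/

set_option autoImplicit false

namespace Cfsg.Agent.Helper9.MonsterType

open Cfsg Cfsg.Agent.Helper3.LargeX Cfsg.Agent.Helper9.Leech

theorem negEl_mem_center : negEl ∈ Subgroup.center ↥Co0 := by
  rw [Subgroup.mem_center_iff]
  intro f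
  exact (negPerm_central f).symm

theorem center_cases (c : ↥Co0) (hc : c ∈ Subgroup.center ↥Co0) : c = 1 ∨ c = negEl := by
  have hz := Subgroup.mem_center_iff.mp hc
  rcases central_eq (z := (c : Equiv.Perm ↥leechLattice)) c.2 (by
    intro f hf
    have := hz ⟨f, hf⟩
    exact (congrArg (fun w : ↥Co0 => (w : Equiv.Perm ↥leechLattice)) this).symm) with h | h
  · left; exact Subtype.ext h
  · right; exact Subtype.ext h

theorem center_sq (c : ↥Co0) (hc : c ∈ Subgroup.center ↥Co0) : c * c = 1 := by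
  rcases center_cases c hc with h | h
  · rw [h, one_mul]
  · rw [h, negEl_mul_self]

theorem neg_ne_self {v : leechLattice} (hv : v ≠ 0) : -v ≠ v := by
  intro h
  apply hv
  apply Subtype.ext
  funext i
  have := congrArg (fun w : leechLattice => (w : GolayPt → ℤ) i) h
  simp only [AddSubgroup.coe_neg, Pi.neg_apply] at this
  show (v : GolayPt → ℤ) i = 0
  omega

theorem ne_zero_of_pos {v : leechLattice} (hv : 0 < sqNorm (v : GolayPt → ℤ)) : v ≠ 0 := by
  intro h
  rw [h, sqNorm_zero'] at hv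
  omega

section mt

variable {G : Type*} [Group G] {z : G} {QG : Subgroup G} {Rep : leechLattice → G → Prop}
  {Lift : Co0 → G → Prop}

namespace MT

/-- Lattice automorphisms fixing the class of `v` lift to elements centralizing `s`. -/
theorem exists_lift_cent (m : MT z QG Rep Lift) {s : G} {v : leechLattice} (hs : Rep v s)
    (hs1 : s ≠ 1) (hsz : s ≠ z) (n : Co0) (hn : Rep (n • v) s) :
    ∃ k : G, Lift n k ∧ k * s = s * k := by
  obtain ⟨h, hh⟩ := m.lift_exists n
  have hr := m.lift_rep hh hs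
  have hsQ := m.rep_mem hs
  rcases m.rep_uniq hn hr with e | e
  · refine ⟨h, hh, ?_⟩
    calc h * s = (h * s * h⁻¹) * h := by group
      _ = s * h := by rw [e]
  · obtain ⟨q, hq, hqs⟩ := m.lx.exists_noncomm hsQ hs1 hsz
    have hl : Lift n (q * h) := by
      have := m.lift_mul (m.lift_ker (Subgroup.one_mem _) hq) hh
      rwa [one_mul] at this
    refine ⟨q * h, hl, ?_⟩
    have e2 : q * h * s * (q * h)⁻¹ = s := by
      calc q * h * s * (q * h)⁻¹ = q * (h * s * h⁻¹) * q⁻¹ := by group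
        _ = q * (s * z) * q⁻¹ := by rw [e]
        _ = (q * s * q⁻¹) * (q * z * q⁻¹) := by group
        _ = (z * s) * z := by rw [hqs, m.lx.conj_z hq]
        _ = (s * z) * z := by rw [m.lx.z_comm s hsQ]
        _ = s * (z * z) := by group
        _ = s := by rw [m.lx.z_sq, mul_one]
    calc q * h * s = (q * h * s * (q * h)⁻¹) * (q * h) := by group
      _ = s * (q * h) := by rw [e2]

/-- The lattice automorphisms in `S` with a lift in `R`. -/
def liftSub (m : MT z QG Rep Lift) (S : Subgroup ↥Co0) (R : Subgroup G) : Subgroup ↥S where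
  carrier := {t | ∃ a ∈ R, Lift (t : ↥Co0) a}
  one_mem' := ⟨1, R.one_mem, m.lift_one⟩
  mul_mem' := by
    rintro t t' ⟨a, ha, hta⟩ ⟨a', ha', hta'⟩
    exact ⟨a * a', R.mul_mem ha ha', m.lift_mul hta hta'⟩
  inv_mem' := by
    rintro t ⟨a, ha, hta⟩
    exact ⟨a⁻¹, R.inv_mem ha, m.lift_inv hta⟩

theorem mem_liftSub (m : MT z QG Rep Lift) {S : Subgroup ↥Co0} {R : Subgroup G} {t : ↥S} :
    t ∈ m.liftSub S R ↔ ∃ a ∈ R, Lift (t : ↥Co0) a := Iff.rfl

theorem liftSub_normal (m : MT z QG Rep Lift) {S : Subgroup ↥Co0} {R : Subgroup G}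
    (hS : ∀ n ∈ S, ∃ k : G, Lift n k ∧ ∀ a ∈ R, k * a * k⁻¹ ∈ R) : (m.liftSub S R).Normal := by
  constructor
  rintro t ⟨a, ha, hta⟩ n
  obtain ⟨k, hk, hkR⟩ := hS n n.2
  exact ⟨k * a * k⁻¹, hkR a ha, m.lift_mul (m.lift_mul hk hta) (m.lift_inv hk)⟩

theorem lift_pow (m : MT z QG Rep Lift) {t : ↥Co0} {a : G} (h : Lift t a) (k : ℕ) :
    Lift (t ^ k) (a ^ k) := by
  induction k with
  | zero => rw [pow_zero, pow_zero]; exact m.lift_one
  | succ k ih => rw [pow_succ, pow_succ]; exact m.lift_mul ih h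

theorem liftSub_pgroup (m : MT z QG Rep Lift) {S : Subgroup ↥Co0} {R : Subgroup G}
    (hR : IsPGroup 2 R) : IsPGroup 2 (m.liftSub S R) := by
  rintro ⟨t, a, ha, hta⟩
  obtain ⟨k, hk⟩ := hR ⟨a, ha⟩
  have hk' : a ^ 2 ^ k = 1 := by
    have := congrArg (fun w : ↥R => (w : G)) hk
    simpa using this
  have h1 := m.lift_pow hta (2 ^ k)
  rw [hk'] at h1
  have h2 : (t : ↥Co0) ^ 2 ^ k ∈ Subgroup.center ↥Co0 :=
    (m.lift_cen h1).mp (QG.one_mem)
  have h3 := center_sq _ h2
  refine ⟨k + 1, ?_⟩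
  apply Subtype.ext
  apply Subtype.ext
  have : ((t : ↥Co0) ^ 2 ^ (k + 1)) = 1 := by
    rw [pow_succ, pow_mul, pow_two]; exact h3
  simpa using this

end MT

end mt

theorem finite_co0 : Finite ↥Co0 := Nat.finite_of_card_ne_zero (by rw [card_co0]; norm_num)

theorem sqNorm_smul (g : ↥Co0) (v : leechLattice) :
    sqNorm ((g • v : leechLattice) : GolayPt → ℤ) = sqNorm (v : GolayPt → ℤ) := g.2.2 v

theorem card_le_eight {G : Type*} [Group G] (P : Subgroup G) (a1 a2 a3 a4 a5 a6 a7 a8 : G)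
    (h : ∀ p ∈ P, p = a1 ∨ p = a2 ∨ p = a3 ∨ p = a4 ∨ p = a5 ∨ p = a6 ∨ p = a7 ∨ p = a8) :
    Nat.card ↥P ≤ 8 := by
  classical
  have h1 : Nat.card ↥P = (P : Set G).ncard := (Nat.card_coe_set_eq (P : Set G))
  rw [h1]
  have h2 : (P : Set G) ⊆ (([a1, a2, a3, a4, a5, a6, a7, a8].toFinset : Finset G) : Set G) := by
    intro p hp
    have := h p hp
    simp only [Finset.mem_coe, List.mem_toFinset, List.mem_cons, List.not_mem_nil, or_false]
    exact this
  calc (P : Set G).ncard ≤ (([a1, a2, a3, a4, a5, a6, a7, a8].toFinset : Finset G) : Set G).ncard :=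
        Set.ncard_le_ncard h2 (Finset.finite_toSet _)
    _ = ([a1, a2, a3, a4, a5, a6, a7, a8].toFinset : Finset G).card := Set.ncard_coe_finset _
    _ ≤ [a1, a2, a3, a4, a5, a6, a7, a8].length := List.toFinset_card_le _
    _ = 8 := rfl

section mt2

variable {G : Type*} [Group G] [Finite G] {z : G} {QG : Subgroup G}
  {Rep : leechLattice → G → Prop} {Lift : Co0 → G → Prop}

namespace MT

/-- If the conjugate `s` of `z` in `Q` is represented by a vector of minimal length, then the
centralizer of `z` in the conjugate of `Q` attached to `s` lies in `Q`. -/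
theorem RP_le_of_rep32 (m : MT z QG Rep Lift) (g : G) (hs : g * z * g⁻¹ ∈ QG)
    (hsz : g * z * g⁻¹ ≠ z) {v : leechLattice} (hv : Rep v (g * z * g⁻¹))
    (hvn : sqNorm (v : GolayPt → ℤ) = 32) :
    ∀ a ∈ QG.map (MulAut.conj g).toMonoidHom, a * z = z * a → a ∈ QG := by
  have : Fact (Nat.Prime 2) := ⟨Nat.prime_two⟩
  have xs := XS.of_lx m.lx g hs hsz
  have hs1 : g * z * g⁻¹ ≠ 1 := xs.x_ne
  obtain ⟨hsimp, hcardS⟩ := co2_simple_card v hvn
  have hTn : (m.liftSub (MulAction.stabilizer ↥Co0 v) xs.RP).Normal := by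
    apply m.liftSub_normal
    intro n hn
    have hnv : n • v = v := MulAction.mem_stabilizer_iff.mp hn
    obtain ⟨k, hk, hks⟩ := m.exists_lift_cent hv hs1 hsz n (by rw [hnv]; exact hv)
    exact ⟨k, hk, fun a ha => xs.conj_mem_RP (m.lift_comm hk) hks ha⟩
  have hTp : IsPGroup 2 (m.liftSub (MulAction.stabilizer ↥Co0 v) xs.RP) :=
    m.liftSub_pgroup (xs.hP.pgrp.to_le xs.RP_le)
  have hT : m.liftSub (MulAction.stabilizer ↥Co0 v) xs.RP = ⊥ := by
    rcases hsimp.eq_bot_or_eq_top_of_normal _ hTn with h | h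
    · exact h
    · exfalso
      have hSp : IsPGroup 2 ↥(MulAction.stabilizer ↥Co0 v) := by
        intro t
        have ht : t ∈ m.liftSub (MulAction.stabilizer ↥Co0 v) xs.RP := by
          rw [h]; exact Subgroup.mem_top _
        obtain ⟨k, hk⟩ := hTp ⟨t, ht⟩
        have e := congrArg Subtype.val hk
        rw [Subgroup.coe_pow] at e
        exact ⟨k, e⟩
      have : Finite ↥Co0 := finite_co0
      obtain ⟨n, hn⟩ := (IsPGroup.iff_card).mp hSp
      rw [hcardS] at hn
      have h3 : 3 ∣ 2 ^ n := by rw [← hn]; norm_num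
      have := Nat.Prime.dvd_of_dvd_pow Nat.prime_three h3
      omega
  intro a haP haz
  have ha : a ∈ xs.RP := xs.mem_RP.mpr ⟨haP, haz⟩
  obtain ⟨t, ht⟩ := m.lift_exists' a haz
  have hr := m.lift_rep ht hv
  have hsa : a * (g * z * g⁻¹) * a⁻¹ = g * z * g⁻¹ := by
    rw [xs.hP.z_comm a haP]; group
  rw [hsa] at hr
  have hv0 : v ≠ 0 := ne_zero_of_pos (by omega)
  rcases m.rep_pm hv hr hvn (by rw [sqNorm_smul]; exact hvn) with e | e
  · have htS : t ∈ MulAction.stabilizer ↥Co0 v := MulAction.mem_stabilizer_iff.mpr e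
    have htT : (⟨t, htS⟩ : ↥(MulAction.stabilizer ↥Co0 v)) ∈
        m.liftSub (MulAction.stabilizer ↥Co0 v) xs.RP := ⟨a, ha, ht⟩
    rw [hT, Subgroup.mem_bot] at htT
    have ht1 : t = 1 := congrArg Subtype.val htT
    rw [ht1] at ht
    exact (m.lift_cen ht).mpr (Subgroup.one_mem _)
  · have htS : negEl * t ∈ MulAction.stabilizer ↥Co0 v := by
      rw [MulAction.mem_stabilizer_iff, mul_smul', negEl_smul, e, neg_neg]
    have hl : Lift (negEl * t) a := by
      have := m.lift_mul (m.lift_ker negEl_mem_center QG.one_mem) ht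
      rwa [one_mul] at this
    have htT : (⟨negEl * t, htS⟩ : ↥(MulAction.stabilizer ↥Co0 v)) ∈
        m.liftSub (MulAction.stabilizer ↥Co0 v) xs.RP := ⟨a, ha, hl⟩
    rw [hT, Subgroup.mem_bot] at htT
    have ht1 : negEl * t = 1 := congrArg Subtype.val htT
    rw [ht1] at hl
    exact (m.lift_cen hl).mpr (Subgroup.one_mem _)

/-- A conjugate of `z` in `Q` other than `z` is not represented by a vector of minimal length. -/
theorem not_rep32 (m : MT z QG Rep Lift) (g : G) (hs : g * z * g⁻¹ ∈ QG)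
    (hsz : g * z * g⁻¹ ≠ z) {v : leechLattice} (hv : Rep v (g * z * g⁻¹))
    (hvn : sqNorm (v : GolayPt → ℤ) = 32) : False := by
  have hRP := m.RP_le_of_rep32 g hs hsz hv hvn
  have xs := XS.of_lx m.lx g hs hsz
  have hz1 : z ≠ 1 := m.lx.z_ne
  obtain ⟨p0, hp0, hp0z⟩ := xs.hP.exists_noncomm xs.hzP hz1 (Ne.symm hsz)
  -- elements of the centralizer of z in the conjugate lie in the four-group
  have hfour : ∀ p ∈ QG.map (MulAut.conj g).toMonoidHom, p * z = z * p →
      p = 1 ∨ p = g * z * g⁻¹ ∨ p = z ∨ p = g * z * g⁻¹ * z := by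
    intro p hp hpz
    apply xs.hP.mem_four_of_centralizes xs.hzP m.lx.z_sq hp
    intro r hr hrz
    have hpE : p ∈ xs.E := Subgroup.mem_inf.mpr ⟨hRP p hp hpz, hp⟩
    have hrE : r ∈ xs.E := Subgroup.mem_inf.mpr ⟨hRP r hr hrz, hr⟩
    exact xs.E_comm hpE hrE
  have hcard : Nat.card ↥(QG.map (MulAut.conj g).toMonoidHom) = 2 ^ 25 := by
    rw [Subgroup.card_map_of_injective (MulAut.conj g).injective, m.card]
  have hle := card_le_eight (QG.map (MulAut.conj g).toMonoidHom) 1 (g * z * g⁻¹) z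
    (g * z * g⁻¹ * z) p0 (p0 * (g * z * g⁻¹)) (p0 * z) (p0 * (g * z * g⁻¹ * z)) (by
      intro p hp
      rcases xs.hP.comm_or hp xs.hzP with h1 | h1
      · rcases hfour p hp h1 with h | h | h | h
        · exact Or.inl h
        · exact Or.inr (Or.inl h)
        · exact Or.inr (Or.inr (Or.inl h))
        · exact Or.inr (Or.inr (Or.inr (Or.inl h)))
      · have h2 := xs.hP.mul_comm_of_conj hp0 hp0z h1
        have h3 := hfour (p0⁻¹ * p) (Subgroup.mul_mem _ (Subgroup.inv_mem _ hp0) hp) h2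
        have e : p = p0 * (p0⁻¹ * p) := by group
        rcases h3 with h | h | h | h
        · right; right; right; right; left
          rw [e, h, mul_one]
        · right; right; right; right; right; left
          rw [e, h]
        · right; right; right; right; right; right; left
          rw [e, h]
        · right; right; right; right; right; right; right
          rw [e, h])
  rw [hcard] at hle
  norm_num at hle

end MT

end mt2

end Cfsg.Agent.Helper9.MonsterType
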