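import Mathlib
import Cfsg.Agent.Helper9.MonsterType.ClaimA
import Cfsg.Agent.Helper9.Leech.Frame
import Cfsg.Agent.Helper9.Leech.MonoStructA

/-!
The stabilizer of the short vector `u = (4, 4, 0, …)` in the automorphism group of the lattice acts
faithfully on the vectors orthogonal to `u` modulo 2, modulo `u`.
-/

set_option autoImplicit false

namespace Cfsg.Agent.Helper9.MonsterType

open Cfsg Cfsg.Agent.Helper9.Leech Cfsg.Agent.Helper9.Leech.Mono Cfsg.Agent.Helper9.Golay

/-- the doubles and their translates by `u`. -/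
def dblU : AddSubgroup ↥leechLattice where
  carrier := {m | (∃ w : ↥leechLattice, m = w + w) ∨ ∃ w : ↥leechLattice, m = Spor.leechU + (w + w)}
  zero_mem' := Or.inl ⟨0, by rw [add_zero]⟩
  add_mem' := by
    rintro a b (⟨w, rfl⟩ | ⟨w, rfl⟩) (⟨w', rfl⟩ | ⟨w', rfl⟩)
    · exact Or.inl ⟨w + w', by abel⟩
    · exact Or.inr ⟨w + w', by abel⟩
    · exact Or.inr ⟨w + w', by abel⟩
    · exact Or.inl ⟨Spor.leechU + w + w', by abel⟩
  neg_mem' := by
    rintro a (⟨w, rfl⟩ | ⟨w, rfl⟩)
    · exact Or.inl ⟨-w, by abel⟩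
    · exact Or.inr ⟨-Spor.leechU + -w, by abel⟩

theorem mem_dblU (m : ↥leechLattice) : m ∈ dblU ↔
    (∃ w : ↥leechLattice, m = w + w) ∨ ∃ w : ↥leechLattice, m = Spor.leechU + (w + w) := Iff.rfl

theorem smul_mem_dblU (g : ↥Co0) (hg : g • Spor.leechU = Spor.leechU) {m : ↥leechLattice}
    (hm : m ∈ dblU) : g • m ∈ dblU := by
  rcases hm with ⟨w, rfl⟩ | ⟨w, rfl⟩
  · exact Or.inl ⟨g • w, smul_add' g w w⟩
  · refine Or.inr ⟨g • w, ?_⟩
    rw [smul_add', smul_add', hg]

/-- an octad avoiding the two points of `u`. -/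
def octF : ℕ := 10558

theorem octF_mem : suppM octF ∈ supports (golayCode : Set (GolayPt → ZMod 2)) :=
  (mem_supports_iff _).mpr ⟨octF, by decide +kernel, rfl⟩

/-- the sign change on that octad. -/
def sgnF : ↥Co0 := monoEl 1 M24.one_mem (suppM octF) octF_mem

def vecF : ↥leechLattice :=
  ⟨pat 4 {some 1, some 6} ∅, four_mem (by decide) (Finset.empty_subset _)⟩

def vecF1 : ↥leechLattice :=
  ⟨pat 8 {some 1} {some 1}, one_mem64 (by decide) (by decide)⟩

theorem sgnF_U : sgnF • Spor.leechU = Spor.leechU := by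
  apply Subtype.ext
  change signedPerm 1 (suppM octF) Spor.vecU = Spor.vecU
  funext i
  have e1 : (1 : Equiv.Perm GolayPt).symm i = i := rfl
  simp only [signedPerm, Spor.vecU, e1, mem_suppM]
  revert i
  decide

theorem sgnF_vecF : sgnF • vecF - vecF = vecF1 := by
  apply Subtype.ext
  rw [AddSubgroup.coe_sub]
  change signedPerm 1 (suppM octF) (pat 4 {some 1, some 6} ∅) - (pat 4 {some 1, some 6} ∅) =
    pat 8 {some 1} {some 1}
  funext i
  have e1 : (1 : Equiv.Perm GolayPt).symm i = i := rfl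
  simp only [signedPerm, pat, e1, Pi.sub_apply, mem_suppM, Finset.notMem_empty, if_false]
  revert i
  decide

theorem dot_vecF : dotInt (vecF : GolayPt → ℤ) Spor.vecU = 0 := by decide

theorem sqNorm_vecF1 : sqNorm (vecF1 : GolayPt → ℤ) = 64 := by decide

theorem sqNorm_vecF1_sub : sqNorm ((vecF1 - Spor.leechU : ↥leechLattice) : GolayPt → ℤ) = 96 := by
  decide

theorem vecF1_not_mem : vecF1 ∉ dblU := by
  rintro (⟨w, hw⟩ | ⟨w, hw⟩)
  · exact not_double (w := vecF1) (by rw [sqNorm_vecF1]; norm_num) (by rw [sqNorm_vecF1]; norm_num)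
      ⟨w, hw⟩
  · apply not_double (w := vecF1 - Spor.leechU) (by rw [sqNorm_vecF1_sub]; norm_num)
      (by rw [sqNorm_vecF1_sub]; norm_num)
    exact ⟨w, by rw [hw]; abel⟩

theorem normU' : sqNorm ((Spor.leechU : ↥leechLattice) : GolayPt → ℤ) = 32 := by decide

theorem dot_smul_U (g : ↥Co0) (hg : g • Spor.leechU = Spor.leechU) (v : ↥leechLattice) :
    dotInt ((g • v : ↥leechLattice) : GolayPt → ℤ) Spor.vecU =
      dotInt (v : GolayPt → ℤ) Spor.vecU := by
  have h := co0_dot g v Spor.leechU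
  rw [hg] at h
  exact h

/-- An automorphism fixing `u` and acting trivially on the vectors orthogonal to `u` modulo 2,
modulo `u`, is the identity. -/
theorem stab_faithful (g : ↥Co0) (hg : g • Spor.leechU = Spor.leechU)
    (h : ∀ v : ↥leechLattice, (16 : ℤ) ∣ dotInt (v : GolayPt → ℤ) Spor.vecU →
      g • v - v ∈ dblU) : g = 1 := by
  have : Finite ↥Co0 := finite_co0
  obtain ⟨hsimp, -⟩ := co2_simple_card Spor.leechU normU'
  let K : Subgroup ↥(MulAction.stabilizer ↥Co0 Spor.leechU) :=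
    { carrier := {k | ∀ v : ↥leechLattice, (16 : ℤ) ∣ dotInt (v : GolayPt → ℤ) Spor.vecU →
        (k : ↥Co0) • v - v ∈ dblU}
      one_mem' := by
        intro v _
        show (1 : ↥Co0) • v - v ∈ dblU
        rw [one_smul, sub_self]
        exact dblU.zero_mem
      mul_mem' := by
        intro a b ha hb v hv
        have hau : (a : ↥Co0) • Spor.leechU = Spor.leechU := MulAction.mem_stabilizer_iff.mp a.2
        show ((a : ↥Co0) * (b : ↥Co0)) • v - v ∈ dblU
        have e : ((a : ↥Co0) * (b : ↥Co0)) • v - v =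
            (a : ↥Co0) • ((b : ↥Co0) • v - v) + ((a : ↥Co0) • v - v) := by
          rw [mul_smul', smul_sub']; abel
        rw [e]
        exact dblU.add_mem (smul_mem_dblU _ hau (hb v hv)) (ha v hv)
      inv_mem' := by
        intro a ha v hv
        have hau : (a : ↥Co0)⁻¹ • Spor.leechU = Spor.leechU := by
          have := MulAction.mem_stabilizer_iff.mp a.2
          rw [inv_smul_eq_iff, this]
        show (a : ↥Co0)⁻¹ • v - v ∈ dblU
        have e : (a : ↥Co0)⁻¹ • v - v = -((a : ↥Co0)⁻¹ • ((a : ↥Co0) • v - v)) := by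
          rw [smul_sub', inv_smul_smul']; abel
        rw [e]
        exact dblU.neg_mem (smul_mem_dblU _ hau (ha v hv)) }
  have hKn : K.Normal := by
    constructor
    intro k hk n v hv
    have hnu : (n : ↥Co0) • Spor.leechU = Spor.leechU := MulAction.mem_stabilizer_iff.mp n.2
    have hniu : (n : ↥Co0)⁻¹ • Spor.leechU = Spor.leechU := by
      rw [inv_smul_eq_iff, hnu]
    show ((n : ↥Co0) * (k : ↥Co0) * (n : ↥Co0)⁻¹) • v - v ∈ dblU
    have e : ((n : ↥Co0) * (k : ↥Co0) * (n : ↥Co0)⁻¹) • v - v =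
        (n : ↥Co0) • ((k : ↥Co0) • ((n : ↥Co0)⁻¹ • v) - (n : ↥Co0)⁻¹ • v) := by
      rw [mul_smul', mul_smul', smul_sub', smul_inv_smul]
    rw [e]
    apply smul_mem_dblU _ hnu
    apply hk
    rw [dot_smul_U _ hniu]
    exact hv
  have hgS : g ∈ MulAction.stabilizer ↥Co0 Spor.leechU := MulAction.mem_stabilizer_iff.mpr hg
  have hgK : (⟨g, hgS⟩ : ↥(MulAction.stabilizer ↥Co0 Spor.leechU)) ∈ K := h
  rcases hsimp.eq_bot_or_eq_top_of_normal K hKn with hK | hK
  · rw [hK, Subgroup.mem_bot] at hgK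
    exact congrArg Subtype.val hgK
  · exfalso
    have hfS : sgnF ∈ MulAction.stabilizer ↥Co0 Spor.leechU :=
      MulAction.mem_stabilizer_iff.mpr sgnF_U
    have hfK : (⟨sgnF, hfS⟩ : ↥(MulAction.stabilizer ↥Co0 Spor.leechU)) ∈ K := by
      rw [hK]; exact Subgroup.mem_top _
    have h1 := hfK vecF (by rw [dot_vecF]; exact dvd_zero _)
    have h2 : sgnF • vecF - vecF ∈ dblU := h1
    rw [sgnF_vecF] at h2
    exact vecF1_not_mem h2

end Cfsg.Agent.Helper9.MonsterType
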