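import Mathlib
import Cfsg.Agent.Helper9.MonsterType.ClaimA

/-!
Groups of Monster type: the conjugates of `z` in `Q` are the elements represented by vectors of
squared length 64; transitivity of the centralizer on them and on the other involutions of `Q`.
-/

set_option autoImplicit false

namespace Cfsg.Agent.Helper9.MonsterType

open Cfsg Cfsg.Agent.Helper3.LargeX Cfsg.Agent.Helper9.Leech

section mt

variable {G : Type*} [Group G] [Finite G] {z : G} {QG : Subgroup G}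
  {Rep : leechLattice → G → Prop} {Lift : Co0 → G → Prop}

namespace MT

theorem conj_rep64 (m : MT z QG Rep Lift) (c : G) (hx : c * z * c⁻¹ ∈ QG)
    (hxz : c * z * c⁻¹ ≠ z) :
    ∃ v : leechLattice, sqNorm (v : GolayPt → ℤ) = 64 ∧ Rep v (c * z * c⁻¹) := by
  have hx1 : c * z * c⁻¹ ≠ 1 := (m.lx.conj c).z_ne
  obtain ⟨v, hv, hn | hn | hn⟩ := m.rep_short hx hx1 hxz
  · exact (m.not_rep32 c hx hxz hv hn).elim
  · exfalso
    have h1 := m.rep_sq48 hv hn
    have h2 : c * z * c⁻¹ * (c * z * c⁻¹) = 1 := (m.lx.conj c).z_sq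
    rw [h2] at h1
    exact m.lx.z_ne h1.symm
  · exact ⟨v, hn, hv⟩

/-- The conjugates of `z` in `Q` other than `z` are the elements represented by vectors of
squared length 64. -/
theorem conj_iff (m : MT z QG Rep Lift) (x : G) :
    (x ∈ QG ∧ IsConj z x ∧ x ≠ z) ↔
      ∃ v : leechLattice, sqNorm (v : GolayPt → ℤ) = 64 ∧ Rep v x := by
  constructor
  · rintro ⟨hxQ, hconj, hxz⟩
    obtain ⟨c, hc⟩ := isConj_iff.mp hconj
    subst hc
    exact m.conj_rep64 c hxQ hxz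
  · rintro ⟨v, hn, hv⟩
    obtain ⟨g0, hg0Q, hg0z⟩ := m.nwc
    obtain ⟨v0, hn0, hv0⟩ := m.conj_rep64 g0 hg0Q hg0z
    obtain ⟨h, hhz, hh⟩ := m.conj64 hv0 hv hn0 hn
    refine ⟨m.rep_mem hv, ?_, (m.rep_not_central hv (by omega) (by omega)).2⟩
    rw [isConj_iff]
    refine ⟨h * g0, ?_⟩
    rw [← hh]; group

/-- The centralizer is transitive on the conjugates of `z` in `Q` other than `z`. -/
theorem trans_conj (m : MT z QG Rep Lift) {s t : G} (hs : s ∈ QG) (ht : t ∈ QG)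
    (hsc : IsConj z s) (htc : IsConj z t) (hsz : s ≠ z) (htz : t ≠ z) :
    ∃ h : G, h * z = z * h ∧ h * s * h⁻¹ = t := by
  obtain ⟨v, hvn, hv⟩ := (m.conj_iff s).mp ⟨hs, hsc, hsz⟩
  obtain ⟨w, hwn, hw⟩ := (m.conj_iff t).mp ⟨ht, htc, htz⟩
  exact m.conj64 hv hw hvn hwn

theorem rep32_of_invol (m : MT z QG Rep Lift) {s : G} (hs : s ∈ QG) (hs2 : orderOf s = 2)
    (hsc : ¬ IsConj z s) :
    ∃ v : leechLattice, sqNorm (v : GolayPt → ℤ) = 32 ∧ Rep v s := by
  have hs1 : s ≠ 1 := by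
    intro h
    rw [h, orderOf_one] at hs2
    omega
  have hsz : s ≠ z := by
    intro h
    apply hsc
    rw [h]
  have hsq : s * s = 1 := by
    rw [← pow_two, ← hs2]; exact pow_orderOf_eq_one s
  obtain ⟨v, hv, hn | hn | hn⟩ := m.rep_short hs hs1 hsz
  · exact ⟨v, hn, hv⟩
  · exfalso
    have h1 := m.rep_sq48 hv hn
    rw [hsq] at h1
    exact m.lx.z_ne h1.symm
  · exfalso
    exact hsc ((m.conj_iff s).mpr ⟨v, hn, hv⟩).2.1

/-- The centralizer is transitive on the involutions of `Q` that are not conjugate to `z`. -/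
theorem trans_invol (m : MT z QG Rep Lift) {s t : G} (hs : s ∈ QG) (ht : t ∈ QG)
    (hs2 : orderOf s = 2) (ht2 : orderOf t = 2) (hsc : ¬ IsConj z s) (htc : ¬ IsConj z t) :
    ∃ h : G, h * z = z * h ∧ h * s * h⁻¹ = t := by
  obtain ⟨v, hvn, hv⟩ := m.rep32_of_invol hs hs2 hsc
  obtain ⟨w, hwn, hw⟩ := m.rep32_of_invol ht ht2 htc
  exact m.conj32 hv hw hvn hwn

end MT

end mt

end Cfsg.Agent.Helper9.MonsterType
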