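import Mathlib
import Cfsg.Agent.Helper9.MonsterType.Main1
import Cfsg.Agent.Helper9.Leech.Frame

/-!
Groups of Monster type: the commutator pairing on `Q` modulo its centre is the inner product of the
lattice, divided by 8 and reduced modulo 2.
-/

set_option autoImplicit false

namespace Cfsg.Agent.Helper9.MonsterType

open Cfsg Cfsg.Agent.Helper3.LargeX Cfsg.Agent.Helper9.Leech

section mt

variable {G : Type*} [Group G] {z : G} {QG : Subgroup G} {Rep : leechLattice → G → Prop}
  {Lift : Co0 → G → Prop}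

namespace MT

theorem sgm_eq (m : MT z QG Rep Lift) {v : leechLattice} {x : G} (h : Rep v x) :
    sgm x = ((sqNorm (v : GolayPt → ℤ) / 16 : ℤ) : ZMod 2) := by
  rw [← m.Fq_main v, m.Fq_eq h]

/-- Two elements of `Q` commute exactly when the inner product of vectors representing them is
divisible by 16. -/
theorem comm_iff (m : MT z QG Rep Lift) {v w : leechLattice} {x y : G} (hx : Rep v x)
    (hy : Rep w y) :
    x * y = y * x ↔ (16 : ℤ) ∣ dotInt (v : GolayPt → ℤ) (w : GolayPt → ℤ) := by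
  have h1 := sgm_mul m.lx m.sq (m.rep_mem hx) (m.rep_mem hy)
  rw [m.sgm_eq hx, m.sgm_eq hy, m.sgm_eq (m.rep_add hx hy)] at h1
  obtain ⟨a, ha⟩ := sixteen_dvd_sqNorm ((mem_leechLattice_iff _).mp v.2)
  obtain ⟨b, hb⟩ := sixteen_dvd_sqNorm ((mem_leechLattice_iff _).mp w.2)
  obtain ⟨c, hc⟩ := dot_dvd v.2 w.2
  have h2 : sqNorm ((v + w : leechLattice) : GolayPt → ℤ) = 16 * (a + b + c) := by
    rw [AddSubgroup.coe_add, sqNorm_add', ha, hb, hc]; ring
  rw [h2, ha, hb] at h1
  rw [Int.mul_ediv_cancel_left _ (by norm_num : (16 : ℤ) ≠ 0),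
    Int.mul_ediv_cancel_left _ (by norm_num : (16 : ℤ) ≠ 0),
    Int.mul_ediv_cancel_left _ (by norm_num : (16 : ℤ) ≠ 0)] at h1
  push_cast at h1
  have h3 : bt x y = (c : ZMod 2) := by
    have hz2 : ∀ p q r s : ZMod 2, p + q + r = p + q + s → s = r := by decide
    exact hz2 _ _ _ _ h1
  rw [hc]
  constructor
  · intro hcomm
    rw [bt_of_comm hcomm] at h3
    have h4 : (2 : ℤ) ∣ c := by
      have := (ZMod.intCast_zmod_eq_zero_iff_dvd c 2).mp h3.symm
      exact_mod_cast this
    obtain ⟨d, hd⟩ := h4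
    exact ⟨d, by rw [hd]; ring⟩
  · rintro ⟨d, hd⟩
    by_contra hne
    rw [bt_of_ne hne] at h3
    have h4 : (2 : ℤ) ∣ c := ⟨d, by omega⟩
    have := (ZMod.intCast_zmod_eq_zero_iff_dvd c 2).mpr (by exact_mod_cast h4)
    rw [this] at h3
    revert h3
    decide

end MT

end mt

end Cfsg.Agent.Helper9.MonsterType
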