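import Mathlib
import Cfsg.Agent.Helper9.MonsterType.Setup
import Cfsg.Agent.Helper3.ExtraRank

/-!
Groups of Monster type: orders of the centralizer of `z` in a conjugate of `Q` and of the
intersection of `Q` with a conjugate.
-/

set_option autoImplicit false

namespace Cfsg.Agent.Helper9.MonsterType

open Cfsg Cfsg.Agent.Helper3.LargeX

theorem card_inf_of_relIndex_two {G : Type*} [Group G] (H K : Subgroup G)
    (h : H.relIndex K = 2) : Nat.card ↥(H ⊓ K) * 2 = Nat.card ↥K := by
  have h1 := Subgroup.card_mul_index (H.subgroupOf K)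
  have h2 : Nat.card ↥(H.subgroupOf K) = Nat.card ↥(H ⊓ K) := by
    rw [← Subgroup.inf_subgroupOf_right]
    exact Nat.card_congr (Subgroup.subgroupOfEquivOfLe inf_le_right).toEquiv
  rw [h2] at h1
  rw [Subgroup.relIndex] at h
  rw [h] at h1
  exact h1

theorem card_subgroupOf_of_le {G : Type*} [Group G] {A B : Subgroup G} (h : A ≤ B) :
    Nat.card ↥(A.subgroupOf B) = Nat.card ↥A :=
  Nat.card_congr (Subgroup.subgroupOfEquivOfLe h).toEquiv

section mt

variable {G : Type*} [Group G] [Finite G] {z : G} {QG : Subgroup G}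
  {Rep : leechLattice → G → Prop} {Lift : Co0 → G → Prop}

namespace MT

theorem card_RP (m : MT z QG Rep Lift) {P : Subgroup G} {s g : G} (xs : XS QG P z s g) :
    Nat.card ↥xs.RP = 2 ^ 24 := by
  have hcardP : Nat.card ↥P = 2 ^ 25 := by
    rw [xs.hPdef, Subgroup.card_map_of_injective (MulAut.conj g).injective, m.card]
  obtain ⟨p0, hp0, hp0z⟩ := xs.hP.exists_noncomm xs.hzP m.lx.z_ne (Ne.symm xs.hxz)
  have hrel : (Subgroup.centralizer ({z} : Set G)).relIndex P = 2 := by
    rw [Subgroup.relIndex_eq_two_iff_exists_notMem_and]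
    refine ⟨p0, hp0, ?_, ?_⟩
    · intro h
      rw [Subgroup.mem_centralizer_singleton_iff] at h
      exact xs.hP.not_comm_of_conj hp0z h
    · intro b hb
      rcases xs.hP.comm_or hb xs.hzP with h1 | h1
      · right
        exact Subgroup.mem_centralizer_singleton_iff.mpr h1
      · left
        rw [Subgroup.mem_centralizer_singleton_iff]
        have e : b * p0 * z * (b * p0)⁻¹ = z := by
          calc b * p0 * z * (b * p0)⁻¹ = b * (p0 * z * p0⁻¹) * b⁻¹ := by group
            _ = b * (s * z) * b⁻¹ := by rw [hp0z]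
            _ = (b * s * b⁻¹) * (b * z * b⁻¹) := by group
            _ = s * (s * z) := by rw [xs.hP.conj_z hb, h1]
            _ = (s * s) * z := by group
            _ = z := by rw [xs.x_sq, one_mul]
        calc b * p0 * z = (b * p0 * z * (b * p0)⁻¹) * (b * p0) := by group
          _ = z * (b * p0) := by rw [e]
  have h2 := card_inf_of_relIndex_two _ _ hrel
  rw [hcardP] at h2
  have h3 : xs.RP = Subgroup.centralizer ({z} : Set G) ⊓ P := by
    unfold XS.RP
    exact inf_comm _ _
  rw [h3]
  omega

theorem card_E_le (m : MT z QG Rep Lift) {P : Subgroup G} {s g : G} (xs : XS QG P z s g) :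
    Nat.card ↥xs.E ≤ 2 ^ 13 := by
  have : Fact (Nat.Prime 2) := ⟨Nat.prime_two⟩
  have hle : xs.E ≤ QG := inf_le_left
  have hA : IsMulCommutative ↥(xs.E.subgroupOf QG) := by
    constructor
    constructor
    intro a b
    apply Subtype.ext
    apply Subtype.ext
    exact xs.E_comm (Subgroup.mem_subgroupOf.mp a.2) (Subgroup.mem_subgroupOf.mp b.2)
  have h1 := (Cfsg.Agent.Helper3.Extra.inClass_of_isExtraspecial m.extra).card_le_of_commutative
    12 m.card (xs.E.subgroupOf QG) hA
  rw [card_subgroupOf_of_le hle] at h1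
  exact h1

end MT

end mt

end Cfsg.Agent.Helper9.MonsterType
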