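import Mathlib
import Cfsg.Agent.Helper9.MonsterType.Setup
import Cfsg.Agent.Helper9.Leech.Order

/-!
Groups of Monster type: changing the identification with the Leech lattice modulo 2 by a lattice
automorphism.
-/

set_option autoImplicit false

namespace Cfsg.Agent.Helper9.MonsterType

open Cfsg Cfsg.Agent.Helper9.Leech

section twist

variable {G : Type*} [Group G] {z : G}
  (Q : Subgroup (Subgroup.centralizer ({z} : Set G))) [Q.Normal]
  (e : (Subgroup.centralizer ({z} : Set G)) ⧸ Q ≃* Spor.Co1)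
  (ψ : leechLattice → Q ⧸ Subgroup.center Q)

/-- The twisted identification of the quotient with the first Conway group. -/
noncomputable def twistE (g0 : Co0) : (Subgroup.centralizer ({z} : Set G)) ⧸ Q ≃* Spor.Co1 :=
  e.trans (MulAut.conj ((QuotientGroup.mk g0 : Spor.Co1))⁻¹)

theorem twistE_apply (g0 : Co0) (x : (Subgroup.centralizer ({z} : Set G)) ⧸ Q) :
    twistE Q e g0 x = (QuotientGroup.mk g0 : Spor.Co1)⁻¹ * e x * (QuotientGroup.mk g0 : Spor.Co1) := by
  unfold twistE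
  rw [MulEquiv.trans_apply, MulAut.conj_apply, inv_inv]

/-- The twisted map from the lattice. -/
def twistPsi (g0 : Co0) : leechLattice → Q ⧸ Subgroup.center Q := fun v => ψ (g0 • v)

theorem twist_iso (hψ : IsLeechModTwoIso Q e ψ) (g0 : Co0) :
    IsLeechModTwoIso Q (twistE Q e g0) (twistPsi Q ψ g0) := by
  obtain ⟨hadd, hsurj, hker, hequiv⟩ := hψ
  refine ⟨?_, ?_, ?_, ?_⟩
  · intro v w
    show ψ (g0 • (v + w)) = ψ (g0 • v) * ψ (g0 • w)
    rw [smul_add', hadd]
  · intro y
    obtain ⟨w, hw⟩ := hsurj y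
    refine ⟨g0⁻¹ • w, ?_⟩
    show ψ (g0 • (g0⁻¹ • w)) = y
    rw [smul_inv_smul, hw]
  · intro v
    show ψ (g0 • v) = 1 ↔ _
    rw [hker]
    constructor
    · rintro ⟨w, hw⟩
      refine ⟨g0⁻¹ • w, ?_⟩
      rw [← smul_add', ← hw, inv_smul_smul]
    · rintro ⟨w, rfl⟩
      exact ⟨g0 • w, smul_add' g0 w w⟩
  · intro h n hn v q hq
    show ψ (g0 • (n • v)) = _
    have h1 : g0 • (n • v) = (g0 * n * g0⁻¹) • (g0 • v) := by
      rw [mul_smul, mul_smul, inv_smul_smul]
    rw [h1]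
    apply hequiv h (g0 * n * g0⁻¹) _ (g0 • v) q hq
    rw [twistE_apply] at hn
    have h2 : (QuotientGroup.mk (g0 * n * g0⁻¹) : Spor.Co1) =
        (QuotientGroup.mk g0 : Spor.Co1) * QuotientGroup.mk n * (QuotientGroup.mk g0 : Spor.Co1)⁻¹ := rfl
    rw [h2, hn]
    group

end twist

end Cfsg.Agent.Helper9.MonsterType
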