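import Mathlib
import Cfsg.Agent.Helper9.MonsterType.Main1
import Cfsg.Agent.Helper9.MonsterType.Count
import Cfsg.Agent.Helper9.MonsterType.Twist
import Cfsg.Agent.Helper9.Leech.MonoStructC

/-!
Groups of Monster type: the stabilizer in the quotient of a conjugate of `z` in `Q`, when that
conjugate is represented by a vector of the standard cross.
-/

set_option autoImplicit false

namespace Cfsg.Agent.Helper9.MonsterType

open Cfsg Cfsg.Agent.Helper3.LargeX Cfsg.Agent.Helper9.Leech Cfsg.Agent.Helper9.Leech.Mono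

section frame

variable {G : Type*} [Group G] [Finite G] {z : G}
  (Q : Subgroup (Subgroup.centralizer ({z} : Set G))) [Q.Normal]
  (e : (Subgroup.centralizer ({z} : Set G)) ⧸ Q ≃* Spor.Co1)
  (ψ : leechLattice → Q ⧸ Subgroup.center Q)

set_option maxHeartbeats 1000000 in
theorem frame_core (hset : IsExtraspecialCentralizerSetting z Q 12)
    (hψ : IsLeechModTwoIso Q e ψ) (g : G)
    (hsQ : g * z * g⁻¹ ∈ Q.map (Subgroup.centralizer ({z} : Set G)).subtype)
    (hs1 : g * z * g⁻¹ ≠ z) (hv : Rep Q ψ (e8 none) (g * z * g⁻¹))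
    (X E : Subgroup ((Subgroup.centralizer ({z} : Set G)) ⧸ Q))
    (hX : X = ((Subgroup.centralizer ({z} : Set G) ⊓
      Subgroup.centralizer ({g * z * g⁻¹} : Set G)).subgroupOf
        (Subgroup.centralizer ({z} : Set G))).map (QuotientGroup.mk' Q))
    (hE : E = (((Q.map (Subgroup.centralizer ({z} : Set G)).subtype).map
      (MulAut.conj g).toMonoidHom ⊓ Subgroup.centralizer ({z} : Set G)).subgroupOf
        (Subgroup.centralizer ({z} : Set G))).map (QuotientGroup.mk' Q)) :
    E ≤ X ∧ (∀ x ∈ X, ∀ y ∈ E, x * y * x⁻¹ ∈ E) ∧ Cfsg.IsElementaryAbelian 2 E ∧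
      Nat.card E = 2 ^ 11 ∧
      Nat.card ↥((Q.map (Subgroup.centralizer ({z} : Set G)).subtype) ⊓
        (Q.map (Subgroup.centralizer ({z} : Set G)).subtype).map
          (MulAut.conj g).toMonoidHom) = 2 ^ 13 ∧
      ∃ K : Subgroup ((Subgroup.centralizer ({z} : Set G)) ⧸ Q),
        K ≤ X ∧ E ⊓ K = ⊥ ∧ E ⊔ K = X ∧ Nonempty (K ≃* Cfsg.M24) := by
  have m := mt_of Q e ψ hset hψ
  have xs := XS.of_lx m.lx g hsQ hs1
  have hsn1 : g * z * g⁻¹ ≠ 1 := xs.x_ne
  obtain ⟨D, M, hD, hMle, hDM, hDMsup, hDc, ⟨iso⟩, hO2⟩ := frame_struct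
  have hfinCo1 : Finite Spor.Co1 := by
    have : Finite ↥Co0 := finite_co0
    exact inferInstanceAs (Finite (↥Co0 ⧸ Subgroup.center ↥Co0))
  -- membership
  have memCH : ∀ h : ↥(Subgroup.centralizer ({z} : Set G)),
      h ∈ (Subgroup.centralizer ({z} : Set G) ⊓
        Subgroup.centralizer ({g * z * g⁻¹} : Set G)).subgroupOf
          (Subgroup.centralizer ({z} : Set G)) ↔
        (h : G) * (g * z * g⁻¹) = (g * z * g⁻¹) * (h : G) := by
    intro h
    rw [Subgroup.mem_subgroupOf, Subgroup.mem_inf]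
    constructor
    · intro h1; exact Subgroup.mem_centralizer_singleton_iff.mp h1.2
    · intro h1; exact ⟨h.2, Subgroup.mem_centralizer_singleton_iff.mpr h1⟩
  have memRP : ∀ h : ↥(Subgroup.centralizer ({z} : Set G)),
      h ∈ ((Q.map (Subgroup.centralizer ({z} : Set G)).subtype).map
        (MulAut.conj g).toMonoidHom ⊓ Subgroup.centralizer ({z} : Set G)).subgroupOf
          (Subgroup.centralizer ({z} : Set G)) ↔
        (h : G) ∈ (Q.map (Subgroup.centralizer ({z} : Set G)).subtype).map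
          (MulAut.conj g).toMonoidHom := by
    intro h
    rw [Subgroup.mem_subgroupOf, Subgroup.mem_inf]
    constructor
    · intro h1; exact h1.1
    · intro h1; exact ⟨h1, h.2⟩
  have hmemH : ∀ x : G, x ∈ Subgroup.centralizer ({z} : Set G) ↔ x * z = z * x :=
    fun x => Subgroup.mem_centralizer_singleton_iff
  -- (C1)
  have hX1 : ∀ x : (Subgroup.centralizer ({z} : Set G)) ⧸ Q, x ∈ X ↔ e x ∈ NN.map proj0 := by
    intro x
    constructor
    · rw [hX]
      rintro ⟨h, hh, rfl⟩
      have hhs := (memCH h).mp hh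
      obtain ⟨n, hn⟩ := m.lift_exists' (h : G) ((hmemH _).mp h.2)
      have hr := m.lift_rep hn hv
      have e1 : (h : G) * (g * z * g⁻¹) * (h : G)⁻¹ = g * z * g⁻¹ := by
        rw [hhs]; group
      rw [e1] at hr
      obtain ⟨u, hu, huv⟩ := m.rep_cong hr hv
      obtain ⟨hh', hne⟩ := hn
      refine ⟨n, ?_, hne⟩
      show n ∈ NN
      rw [mem_NN_iff_cong]
      refine ⟨⟨u, hu⟩, ?_⟩
      apply Subtype.ext
      rw [AddSubgroup.coe_add, AddSubgroup.coe_add]
      show ((n • e8 none : ↥leechLattice) : GolayPt → ℤ) =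
        ((e8 none : ↥leechLattice) : GolayPt → ℤ) + (u + u)
      rw [two_smul] at huv
      rw [← huv]; abel
    · rintro ⟨n, hnN, hne⟩
      obtain ⟨h, rfl⟩ := QuotientGroup.mk_surjective x
      obtain ⟨u, hu⟩ := (mem_NN_iff_cong n).mp hnN
      have hrep : Rep Q ψ (n • e8 none) (g * z * g⁻¹) := by
        rw [hu]; exact m.rep_congr hv u
      obtain ⟨k, ⟨hk', hk⟩, hks⟩ := m.exists_lift_cent hv hsn1 hs1 n hrep
      have e1 : (QuotientGroup.mk (⟨k, hk'⟩ : ↥(Subgroup.centralizer ({z} : Set G))) :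
          (Subgroup.centralizer ({z} : Set G)) ⧸ Q) = QuotientGroup.mk h := by
        apply e.injective
        rw [← hk]
        exact hne
      rw [hX, ← e1]
      exact ⟨⟨k, hk'⟩, (memCH _).mpr hks, rfl⟩
  have hXmap : X.map e.toMonoidHom = NN.map proj0 := by
    ext y
    constructor
    · rintro ⟨x, hx, rfl⟩
      exact (hX1 x).mp hx
    · intro hy
      refine ⟨e.symm y, (hX1 _).mpr ?_, ?_⟩
      · rw [MulEquiv.apply_symm_apply]; exact hy
      · exact MulEquiv.apply_symm_apply e y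
  -- (C2)
  have hEX : E ≤ X := by
    rw [hE, hX]
    apply Subgroup.map_mono
    intro h hh
    rw [memCH]
    exact xs.hP.z_comm _ ((memRP h).mp hh)
  have hnorm : ∀ x ∈ X, ∀ y ∈ E, x * y * x⁻¹ ∈ E := by
    rw [hE, hX]
    rintro _ ⟨c, hc, rfl⟩ _ ⟨a, ha, rfl⟩
    have := xs.hP.norm (c : G) ((memCH c).mp hc) (a : G) ((memRP a).mp ha)
    refine ⟨c * a * c⁻¹, (memRP _).mpr (by simpa using this), by simp⟩
  -- (C3)
  have hED : E.map e.toMonoidHom ≤ D := by
    apply hO2
    · rintro _ ⟨y, hy, rfl⟩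
      exact (hX1 y).mp (hEX hy)
    · rintro ⟨w, hw⟩
      rw [hE] at hw
      obtain ⟨_, ⟨a, ha, rfl⟩, rfl⟩ := hw
      have haP := (memRP a).mp ha
      obtain ⟨k, hk⟩ := xs.hP.pgrp ⟨(a : G), haP⟩
      have hk' : (a : G) ^ 2 ^ k = 1 := by
        have := congrArg Subtype.val hk
        rw [Subgroup.coe_pow] at this
        exact this
      have hk'' : a ^ 2 ^ k = 1 := by
        apply Subtype.ext
        rw [Subgroup.coe_pow]
        exact hk'
      refine ⟨k, ?_⟩
      apply Subtype.ext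
      rw [Subgroup.coe_pow]
      show (e.toMonoidHom ((QuotientGroup.mk' Q) a)) ^ 2 ^ k = 1
      rw [← map_pow, ← map_pow, hk'', map_one, map_one]
    · intro x hx n hn
      rw [← hXmap] at hx
      obtain ⟨x0, hx0, rfl⟩ := hx
      obtain ⟨y0, hy0, rfl⟩ := hn
      refine ⟨x0 * y0 * x0⁻¹, hnorm x0 hx0 y0 hy0, ?_⟩
      simp
  -- (C4)
  have hcount : Nat.card ↥E * Nat.card ↥xs.E = 2 ^ 24 := by
    have h1 := card_map_mul (QuotientGroup.mk' Q)
      (((Q.map (Subgroup.centralizer ({z} : Set G)).subtype).map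
        (MulAut.conj g).toMonoidHom ⊓ Subgroup.centralizer ({z} : Set G)).subgroupOf
          (Subgroup.centralizer ({z} : Set G)))
    rw [← hE, QuotientGroup.ker_mk'] at h1
    have h2 : Q ⊓ ((Q.map (Subgroup.centralizer ({z} : Set G)).subtype).map
        (MulAut.conj g).toMonoidHom ⊓ Subgroup.centralizer ({z} : Set G)).subgroupOf
          (Subgroup.centralizer ({z} : Set G)) =
        xs.E.subgroupOf (Subgroup.centralizer ({z} : Set G)) := by
      ext h
      rw [Subgroup.mem_inf, memRP, Subgroup.mem_subgroupOf]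
      unfold XS.E
      rw [Subgroup.mem_inf, mem_map_iff]
      constructor
      · rintro ⟨h1, h2⟩
        exact ⟨⟨h.2, h1⟩, h2⟩
      · rintro ⟨⟨_, h1⟩, h2⟩
        exact ⟨h1, h2⟩
    have hEle : xs.E ≤ Subgroup.centralizer ({z} : Set G) :=
      le_trans inf_le_left (Subgroup.map_subtype_le Q)
    have hRPle : (Q.map (Subgroup.centralizer ({z} : Set G)).subtype).map
        (MulAut.conj g).toMonoidHom ⊓ Subgroup.centralizer ({z} : Set G) ≤
        Subgroup.centralizer ({z} : Set G) := inf_le_right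
    rw [h2, card_subgroupOf_of_le hEle, card_subgroupOf_of_le hRPle] at h1
    have h3 := m.card_RP xs
    unfold XS.RP at h3
    rw [h3] at h1
    exact h1
  have hEcard_le := m.card_E_le xs
  have hEge : 2 ^ 11 ≤ Nat.card ↥E := by
    by_contra hlt
    push Not at hlt
    have h1 : Nat.card ↥E * Nat.card ↥xs.E ≤ (2 ^ 11 - 1) * 2 ^ 13 :=
      Nat.mul_le_mul (by omega) hEcard_le
    rw [hcount] at h1
    norm_num at h1
  have hmapcard : Nat.card ↥(E.map e.toMonoidHom) = Nat.card ↥E :=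
    Subgroup.card_map_of_injective e.injective
  -- (C5)
  have hEmap : E.map e.toMonoidHom = D := by
    apply Subgroup.eq_of_le_of_card_ge hED
    rw [hmapcard, hDc]
    exact hEge
  have hEcard : Nat.card ↥E = 2 ^ 11 := by rw [← hmapcard, hEmap, hDc]
  have hEGcard : Nat.card ↥xs.E = 2 ^ 13 := by
    rw [hEcard] at hcount
    have : (2 : ℕ) ^ 24 = 2 ^ 11 * 2 ^ 13 := by norm_num
    rw [this] at hcount
    exact Nat.eq_of_mul_eq_mul_left (by norm_num) hcount
  -- (C7)
  have hEea : Cfsg.IsElementaryAbelian 2 E := by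
    have hsQ' : ∀ c : G, c = 1 ∨ c = g * z * g⁻¹ → ∀ hc : c ∈ Subgroup.centralizer ({z} : Set G),
        (QuotientGroup.mk' Q) ⟨c, hc⟩ = 1 := by
      intro c hc hcH
      rw [QuotientGroup.mk'_apply, QuotientGroup.eq_one_iff]
      rcases hc with rfl | rfl
      · exact Q.one_mem
      · obtain ⟨h1, h2⟩ := (mem_map_iff Q _).mp hsQ
        exact h2
    constructor
    · constructor
      constructor
      rintro ⟨y1, hy1⟩ ⟨y2, hy2⟩
      apply Subtype.ext
      show y1 * y2 = y2 * y1
      rw [hE] at hy1 hy2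
      obtain ⟨a, ha, rfl⟩ := hy1
      obtain ⟨b, hb, rfl⟩ := hy2
      have haP := (memRP a).mp ha
      have hbP := (memRP b).mp hb
      have hc := xs.hP.comm (a : G) haP (b : G) hbP
      have hcH : (a : G) * (b : G) * (a : G)⁻¹ * (b : G)⁻¹ ∈
          Subgroup.centralizer ({z} : Set G) := (a * b * a⁻¹ * b⁻¹).2
      have h1 := hsQ' _ hc hcH
      have h2 : (⟨(a : G) * (b : G) * (a : G)⁻¹ * (b : G)⁻¹, hcH⟩ :
          ↥(Subgroup.centralizer ({z} : Set G))) = a * b * a⁻¹ * b⁻¹ := rfl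
      rw [h2, map_mul, map_mul, map_mul, map_inv, map_inv] at h1
      calc (QuotientGroup.mk' Q) a * (QuotientGroup.mk' Q) b
          = ((QuotientGroup.mk' Q) a * (QuotientGroup.mk' Q) b * ((QuotientGroup.mk' Q) a)⁻¹ *
              ((QuotientGroup.mk' Q) b)⁻¹) * ((QuotientGroup.mk' Q) b * (QuotientGroup.mk' Q) a) := by
            group
        _ = (QuotientGroup.mk' Q) b * (QuotientGroup.mk' Q) a := by rw [h1, one_mul]
    · intro y hy
      rw [hE] at hy
      obtain ⟨a, ha, rfl⟩ := hy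
      have haP := (memRP a).mp ha
      have hc := xs.sq_P m.sq (a : G) haP
      have hcH : (a : G) * (a : G) ∈ Subgroup.centralizer ({z} : Set G) := (a * a).2
      have h1 := hsQ' _ hc hcH
      have h2 : (⟨(a : G) * (a : G), hcH⟩ : ↥(Subgroup.centralizer ({z} : Set G))) = a * a := rfl
      rw [h2, map_mul] at h1
      rw [pow_two]
      exact h1
  -- (C6)
  have hinj : Function.Injective e.toMonoidHom := e.injective
  have hsurj : Function.Surjective e.toMonoidHom := e.surjective
  refine ⟨hEX, hnorm, hEea, hEcard, hEGcard, M.comap e.toMonoidHom, ?_, ?_, ?_, ?_⟩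
  · intro x hx
    rw [hX1]
    exact hMle hx
  · have hKmap : (M.comap e.toMonoidHom).map e.toMonoidHom = M :=
      Subgroup.map_comap_eq_self_of_surjective hsurj M
    apply (Subgroup.map_eq_bot_iff_of_injective _ hinj).mp
    rw [Subgroup.map_inf _ _ _ hinj, hEmap, hKmap, hDM]
  · have hKmap : (M.comap e.toMonoidHom).map e.toMonoidHom = M :=
      Subgroup.map_comap_eq_self_of_surjective hsurj M
    apply Subgroup.map_injective hinj
    rw [Subgroup.map_sup, hEmap, hKmap, hDMsup, hXmap]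
  · have hKmap : (M.comap e.toMonoidHom).map e.toMonoidHom = M :=
      Subgroup.map_comap_eq_self_of_surjective hsurj M
    exact ⟨((e.subgroupMap (M.comap e.toMonoidHom)).trans (MulEquiv.subgroupCongr hKmap)).trans iso⟩

end frame

end Cfsg.Agent.Helper9.MonsterType
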