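import Mathlib
import Cfsg.Agent.Helper9.MonsterType.Frame
import Cfsg.Agent.Helper9.MonsterType.BabyLat

/-!
Groups of Monster type: the intersection of `Q` with a conjugate of `Q` attached to a conjugate of
`z` in `Q` contains an involution represented by a vector of minimal length.
-/

set_option autoImplicit false

namespace Cfsg.Agent.Helper9.MonsterType

open Cfsg Cfsg.Agent.Helper3.LargeX Cfsg.Agent.Helper9.Leech Cfsg.Agent.Helper9.Leech.Mono
open Cfsg.Agent.Helper9.Golay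

/-- an octad meeting the standard octad in two points. -/
def octN : ℕ := 31554

theorem octN_mem : suppM octN ∈ supports (golayCode : Set (GolayPt → ZMod 2)) :=
  (mem_supports_iff _).mpr ⟨octN, by decide +kernel, rfl⟩

/-- the sign change on that octad. -/
def sgnN : ↥Co0 := monoEl 1 M24.one_mem (suppM octN) octN_mem

theorem sgnN_mem : sgnN ∈ signSub := by
  rw [mem_signSub]
  exact ⟨monoEl_mem_NN _ _ _ _, (permHom_monoEl 1 M24.one_mem (suppM octN) octN_mem).trans rfl⟩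

/-- the vector with entries 2 on the standard octad. -/
def vecO : ↥leechLattice :=
  ⟨pat 2 (suppM 5279) ∅, oct_mem oct5279_mem (Finset.empty_subset _) (by simp)⟩

/-- the vector with entries -4 at the two common points. -/
def vecY : ↥leechLattice :=
  ⟨pat 4 {some 1, some 12} {some 1, some 12}, four_mem (by decide) (by decide)⟩

theorem sgnN_vecO : sgnN • vecO + -vecO = vecY := by
  apply Subtype.ext
  rw [AddSubgroup.coe_add, AddSubgroup.coe_neg]
  change signedPerm 1 (suppM octN) (pat 2 (suppM 5279) ∅) + -(pat 2 (suppM 5279) ∅) =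
    pat 4 {some 1, some 12} {some 1, some 12}
  funext i
  have e1 : (1 : Equiv.Perm GolayPt).symm i = i := rfl
  simp only [signedPerm, pat, e1, Pi.add_apply, Pi.neg_apply, mem_suppM, Finset.notMem_empty, if_false]
  revert i
  decide

theorem sqNorm_vecY : sqNorm (vecY : GolayPt → ℤ) = 32 := by
  decide

theorem sqNorm_vecO : sqNorm (vecO : GolayPt → ℤ) = 32 := by
  decide

theorem dot_vecO_e8 : dotInt (vecO : GolayPt → ℤ) (e8 none : GolayPt → ℤ) = 0 := by
  decide

theorem signSub_map_le : signSub.map proj0 ≤ NN.map proj0 := Subgroup.map_mono signSub_le_NN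

theorem signSub_map_pgroup : IsPGroup 2 ↥(signSub.map proj0) := by
  have : Fact (Nat.Prime 2) := ⟨Nat.prime_two⟩
  apply IsPGroup.of_card (n := 11)
  exact card_signSub_map

theorem signSub_map_normal : ∀ x ∈ NN.map proj0, ∀ n ∈ signSub.map proj0,
    x * n * x⁻¹ ∈ signSub.map proj0 := by
  rintro _ ⟨a, ha, rfl⟩ _ ⟨d, hd, rfl⟩
  refine ⟨a * d * a⁻¹, ?_, by simp⟩
  have ha' : a ∈ NN := ha
  obtain ⟨hd', hdk⟩ := (mem_signSub d).mp hd
  show a * d * a⁻¹ ∈ signSub
  rw [mem_signSub]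
  refine ⟨NN.mul_mem (NN.mul_mem ha' hd') (NN.inv_mem ha'), ?_⟩
  have e : (⟨a * d * a⁻¹, NN.mul_mem (NN.mul_mem ha' hd') (NN.inv_mem ha')⟩ : ↥NN) =
      ⟨a, ha'⟩ * ⟨d, hd'⟩ * (⟨a, ha'⟩)⁻¹ := rfl
  rw [e, map_mul, map_mul, map_inv, hdk, mul_one, mul_inv_cancel]

section frame

variable {G : Type*} [Group G] [Finite G] {z : G}
  (Q : Subgroup (Subgroup.centralizer ({z} : Set G))) [Q.Normal]
  (e : (Subgroup.centralizer ({z} : Set G)) ⧸ Q ≃* Spor.Co1)
  (ψ : leechLattice → Q ⧸ Subgroup.center Q)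

set_option maxHeartbeats 1000000 in
/-- If the conjugate `s` of `z` in `Q` is represented by a vector of the standard cross, some
sign change lifts to an element of the conjugate of `Q` attached to `s` centralizing `z`. -/
theorem exists_sign_lift (hset : IsExtraspecialCentralizerSetting z Q 12)
    (hψ : IsLeechModTwoIso Q e ψ) (g : G)
    (hsQ : g * z * g⁻¹ ∈ Q.map (Subgroup.centralizer ({z} : Set G)).subtype)
    (hs1 : g * z * g⁻¹ ≠ z) (hv : Rep Q ψ (e8 none) (g * z * g⁻¹))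
    (d : ↥Co0) (hd : d ∈ signSub) :
    ∃ a : G, a ∈ (Q.map (Subgroup.centralizer ({z} : Set G)).subtype).map
      (MulAut.conj g).toMonoidHom ∧ a * z = z * a ∧ Lift Q e d a := by
  have m := mt_of Q e ψ hset hψ
  have xs := XS.of_lx m.lx g hsQ hs1
  have hsn1 : g * z * g⁻¹ ≠ 1 := xs.x_ne
  obtain ⟨D, M, hD, hMle, hDM, hDMsup, hDc, ⟨iso⟩, hO2⟩ := frame_struct
  have hfinCo1 : Finite Spor.Co1 := by
    have : Finite ↥Co0 := finite_co0
    exact inferInstanceAs (Finite (↥Co0 ⧸ Subgroup.center ↥Co0))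
  obtain ⟨hEX, hnorm, hEea, hEcard, -, -⟩ := frame_core Q e ψ hset hψ g hsQ hs1 hv _ _ rfl rfl
  set X := ((Subgroup.centralizer ({z} : Set G) ⊓
      Subgroup.centralizer ({g * z * g⁻¹} : Set G)).subgroupOf
        (Subgroup.centralizer ({z} : Set G))).map (QuotientGroup.mk' Q) with hX
  set E := (((Q.map (Subgroup.centralizer ({z} : Set G)).subtype).map
      (MulAut.conj g).toMonoidHom ⊓ Subgroup.centralizer ({z} : Set G)).subgroupOf
        (Subgroup.centralizer ({z} : Set G))).map (QuotientGroup.mk' Q) with hE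
  have memCH : ∀ h : ↥(Subgroup.centralizer ({z} : Set G)),
      h ∈ (Subgroup.centralizer ({z} : Set G) ⊓
        Subgroup.centralizer ({g * z * g⁻¹} : Set G)).subgroupOf
          (Subgroup.centralizer ({z} : Set G)) ↔
        (h : G) * (g * z * g⁻¹) = (g * z * g⁻¹) * (h : G) := by
    intro h
    rw [Subgroup.mem_subgroupOf, Subgroup.mem_inf]
    constructor
    · intro h1; exact Subgroup.mem_centralizer_singleton_iff.mp h1.2
    · intro h1; exact ⟨h.2, Subgroup.mem_centralizer_singleton_iff.mpr h1⟩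
  have memRP : ∀ h : ↥(Subgroup.centralizer ({z} : Set G)),
      h ∈ ((Q.map (Subgroup.centralizer ({z} : Set G)).subtype).map
        (MulAut.conj g).toMonoidHom ⊓ Subgroup.centralizer ({z} : Set G)).subgroupOf
          (Subgroup.centralizer ({z} : Set G)) ↔
        (h : G) ∈ (Q.map (Subgroup.centralizer ({z} : Set G)).subtype).map
          (MulAut.conj g).toMonoidHom := by
    intro h
    rw [Subgroup.mem_subgroupOf, Subgroup.mem_inf]
    constructor
    · intro h1; exact h1.1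
    · intro h1; exact ⟨h1, h.2⟩
  have hmemH : ∀ x : G, x ∈ Subgroup.centralizer ({z} : Set G) ↔ x * z = z * x :=
    fun x => Subgroup.mem_centralizer_singleton_iff
  have hX1 : ∀ x : (Subgroup.centralizer ({z} : Set G)) ⧸ Q, x ∈ X → e x ∈ NN.map proj0 := by
    intro x
    rw [hX]
    rintro ⟨h, hh, rfl⟩
    have hhs := (memCH h).mp hh
    obtain ⟨n, hn⟩ := m.lift_exists' (h : G) ((hmemH _).mp h.2)
    have hr := m.lift_rep hn hv
    have e1 : (h : G) * (g * z * g⁻¹) * (h : G)⁻¹ = g * z * g⁻¹ := by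
      rw [hhs]; group
    rw [e1] at hr
    obtain ⟨u, hu, huv⟩ := m.rep_cong hr hv
    obtain ⟨hh', hne⟩ := hn
    refine ⟨n, ?_, hne⟩
    show n ∈ NN
    rw [mem_NN_iff_cong]
    refine ⟨⟨u, hu⟩, ?_⟩
    apply Subtype.ext
    rw [AddSubgroup.coe_add, AddSubgroup.coe_add]
    show ((n • e8 none : ↥leechLattice) : GolayPt → ℤ) =
      ((e8 none : ↥leechLattice) : GolayPt → ℤ) + (u + u)
    rw [two_smul] at huv
    rw [← huv]; abel
  have hX2 : ∀ y ∈ NN.map proj0, e.symm y ∈ X := by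
    rintro _ ⟨n, hnN, rfl⟩
    obtain ⟨u, hu⟩ := (mem_NN_iff_cong n).mp hnN
    have hrep : Rep Q ψ (n • e8 none) (g * z * g⁻¹) := by
      rw [hu]; exact m.rep_congr hv u
    obtain ⟨k, ⟨hk', hk⟩, hks⟩ := m.exists_lift_cent hv hsn1 hs1 n hrep
    have e1 : e.symm (proj0 n) =
        (QuotientGroup.mk (⟨k, hk'⟩ : ↥(Subgroup.centralizer ({z} : Set G))) :
          (Subgroup.centralizer ({z} : Set G)) ⧸ Q) := by
      rw [MulEquiv.symm_apply_eq, ← hk]
      rfl
    rw [e1, hX]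
    exact ⟨⟨k, hk'⟩, (memCH _).mpr hks, rfl⟩
  -- the image of `E` is the group of sign changes
  have hED : E.map e.toMonoidHom ≤ D := by
    apply hO2
    · rintro _ ⟨y, hy, rfl⟩
      exact hX1 y (hEX hy)
    · have : Fact (Nat.Prime 2) := ⟨Nat.prime_two⟩
      apply IsPGroup.of_card (n := 11)
      rw [Subgroup.card_map_of_injective e.injective, hEcard]
    · intro x hx n hn
      obtain ⟨y0, hy0, rfl⟩ := hn
      have hx0 := hX2 x hx
      refine ⟨e.symm x * y0 * (e.symm x)⁻¹, hnorm _ hx0 y0 hy0, ?_⟩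
      simp
  have hEmap : E.map e.toMonoidHom = D := by
    apply Subgroup.eq_of_le_of_card_ge hED
    rw [Subgroup.card_map_of_injective e.injective, hDc, hEcard]
  have hSD : signSub.map proj0 = D := by
    apply Subgroup.eq_of_le_of_card_ge
      (hO2 _ signSub_map_le signSub_map_pgroup signSub_map_normal)
    rw [hDc, card_signSub_map]
  have hdE : proj0 d ∈ E.map e.toMonoidHom := by
    rw [hEmap, ← hSD]
    exact ⟨d, hd, rfl⟩
  obtain ⟨y, hy, hyd⟩ := hdE
  rw [hE] at hy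
  obtain ⟨a, ha, rfl⟩ := hy
  have haP := (memRP a).mp ha
  refine ⟨(a : G), haP, (hmemH _).mp a.2, a.2, ?_⟩
  exact hyd.symm

/-- If the conjugate `s` of `z` in `Q` is represented by a vector of the standard cross, the
intersection of `Q` with the conjugate of `Q` attached to `s` contains an element represented by a
vector of minimal length. -/
theorem exists_type2 (hset : IsExtraspecialCentralizerSetting z Q 12)
    (hψ : IsLeechModTwoIso Q e ψ) (g : G)
    (hsQ : g * z * g⁻¹ ∈ Q.map (Subgroup.centralizer ({z} : Set G)).subtype)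
    (hs1 : g * z * g⁻¹ ≠ z) (hv : Rep Q ψ (e8 none) (g * z * g⁻¹)) :
    ∃ t' : G, t' ∈ Q.map (Subgroup.centralizer ({z} : Set G)).subtype ∧
      t' ∈ (Q.map (Subgroup.centralizer ({z} : Set G)).subtype).map
        (MulAut.conj g).toMonoidHom ∧ Rep Q ψ vecY t' := by
  have m := mt_of Q e ψ hset hψ
  have xs := XS.of_lx m.lx g hsQ hs1
  obtain ⟨a, haP, haz, haL⟩ := exists_sign_lift Q e ψ hset hψ g hsQ hs1 hv sgnN sgnN_mem
  obtain ⟨q, hq⟩ := m.rep_total vecO
  have hqQ := m.rep_mem hq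
  have hqs : q * (g * z * g⁻¹) = (g * z * g⁻¹) * q :=
    (m.comm_iff hq hv).mpr (by rw [dot_vecO_e8]; exact dvd_zero _)
  have hq2 : q * q = 1 := m.rep_sq32 hq sqNorm_vecO
  have hqinv : q⁻¹ = q := inv_eq_of_mul_eq_one_left hq2
  have hqneg : Rep Q ψ (-vecO) q := by
    have := m.rep_congr hq (-vecO)
    have e1 : vecO + (-vecO + -vecO) = -vecO := by abel
    rwa [e1] at this
  have hr := m.rep_add (m.lift_rep haL hq) hqneg
  rw [sgnN_vecO] at hr
  refine ⟨a * q * a⁻¹ * q, ?_, ?_, hr⟩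
  · exact Subgroup.mul_mem _ (m.lx.norm a haz q hqQ) hqQ
  · have h1 := xs.hP.norm q hqs a⁻¹ (Subgroup.inv_mem _ haP)
    rw [hqinv] at h1
    have e2 : a * q * a⁻¹ * q = a * (q * a⁻¹ * q) := by group
    rw [e2]
    exact Subgroup.mul_mem _ haP h1

/-- In a group of Monster type, an involution `t` of `Q` that is not conjugate to `z` centralizes
an element conjugating `z` to another element of `Q`. -/
theorem nwc_t (hset : IsExtraspecialCentralizerSetting z Q 12)
    (hψ : IsLeechModTwoIso Q e ψ) (t : G)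
    (ht : t ∈ Q.map (Subgroup.centralizer ({z} : Set G)).subtype) (ht2 : orderOf t = 2)
    (hnc : ¬ IsConj z t) :
    ∃ h : G, h * t = t * h ∧ h * z * h⁻¹ ∈ Q.map (Subgroup.centralizer ({z} : Set G)).subtype ∧
      h * z * h⁻¹ ≠ z := by
  have m0 := mt_of Q e ψ hset hψ
  obtain ⟨g, hsQ, hs1⟩ := m0.nwc
  have xs := XS.of_lx m0.lx g hsQ hs1
  obtain ⟨v, hvn, hv⟩ := m0.conj_rep64 g hsQ hs1
  obtain ⟨g0, hg0⟩ := trans64 (e8 none) v (sqNorm_e8 none) hvn
  have hv' : Rep Q (twistPsi Q ψ g0) (e8 none) (g * z * g⁻¹) := by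
    obtain ⟨hx, hxQ, h⟩ := hv
    refine ⟨hx, hxQ, ?_⟩
    show ψ (g0 • e8 none) = _
    rw [hg0]; exact h
  have hψ' := twist_iso Q e ψ hψ g0
  have m := mt_of Q (twistE Q e g0) (twistPsi Q ψ g0) hset hψ'
  obtain ⟨t', ht'Q, ht'P, ht'r⟩ := exists_type2 Q (twistE Q e g0) (twistPsi Q ψ g0) hset hψ' g
    hsQ hs1 hv'
  -- `t'` is an involution not conjugate to `z`
  have ht'sq : t' * t' = 1 := m.rep_sq32 ht'r sqNorm_vecY
  obtain ⟨ht'1, ht'z⟩ := m.rep_not_central ht'r (by rw [sqNorm_vecY]; norm_num)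
    (by rw [sqNorm_vecY]; norm_num)
  have ht'ord : orderOf t' = 2 := orderOf_eq_prime (by rw [pow_two]; exact ht'sq) ht'1
  have key : ∀ x : G, x ∈ Q.map (Subgroup.centralizer ({z} : Set G)).subtype →
      Rep Q (twistPsi Q ψ g0) vecY x → ¬ IsConj z x := by
    intro x hxQ hxr hconj
    obtain ⟨c, hc⟩ := isConj_iff.mp hconj
    subst hc
    have hxz := (m.rep_not_central hxr (by rw [sqNorm_vecY]; norm_num)
      (by rw [sqNorm_vecY]; norm_num)).2
    exact m.not_rep32 c hxQ hxz hxr sqNorm_vecY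
  have ht'nc : ¬ IsConj z t' := key t' ht'Q ht'r
  -- the conjugate of `t'` back in `Q`
  have ht''Q : g⁻¹ * t' * g ∈ Q.map (Subgroup.centralizer ({z} : Set G)).subtype :=
    (mem_conj_iff _ g t').mp ht'P
  have ht''ord : orderOf (g⁻¹ * t' * g) = 2 := by
    have h1 := MulEquiv.orderOf_eq (MulAut.conj g⁻¹) t'
    rw [MulAut.conj_apply, inv_inv] at h1
    rw [h1]
    exact ht'ord
  have ht''nc : ¬ IsConj z (g⁻¹ * t' * g) := by
    intro hc
    apply ht'nc
    apply hc.trans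
    rw [isConj_iff]
    exact ⟨g, by group⟩
  obtain ⟨c, hcz, hc⟩ := m.trans_invol ht''Q ht'Q ht''ord ht'ord ht''nc ht'nc
  obtain ⟨d, hdz, hd⟩ := m.trans_invol ht'Q ht ht'ord ht2 ht'nc hnc
  refine ⟨d * (g * c⁻¹) * d⁻¹, ?_, ?_, ?_⟩
  · -- centralizes `t`
    have e0 : c⁻¹ * t' * c = g⁻¹ * t' * g := by
      calc c⁻¹ * t' * c = c⁻¹ * (c * (g⁻¹ * t' * g) * c⁻¹) * c := by rw [hc]
        _ = g⁻¹ * t' * g := by group
    have e1 : g * c⁻¹ * t' * (g * c⁻¹)⁻¹ = t' := by
      calc g * c⁻¹ * t' * (g * c⁻¹)⁻¹ = g * (c⁻¹ * t' * c) * g⁻¹ := by group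
        _ = g * (g⁻¹ * t' * g) * g⁻¹ := by rw [e0]
        _ = t' := by group
    calc d * (g * c⁻¹) * d⁻¹ * t = d * (g * c⁻¹) * d⁻¹ * (d * t' * d⁻¹) := by rw [hd]
      _ = d * (g * c⁻¹ * t' * (g * c⁻¹)⁻¹) * (g * c⁻¹) * d⁻¹ := by group
      _ = d * t' * (g * c⁻¹) * d⁻¹ := by rw [e1]
      _ = (d * t' * d⁻¹) * (d * (g * c⁻¹) * d⁻¹) := by group
      _ = t * (d * (g * c⁻¹) * d⁻¹) := by rw [hd]
  · have e2 : d * (g * c⁻¹) * d⁻¹ * z * (d * (g * c⁻¹) * d⁻¹)⁻¹ =
        d * (g * (c⁻¹ * (d⁻¹ * z * d) * c) * g⁻¹) * d⁻¹ := by group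
    have hdz' : d⁻¹ * z * d = z := by
      calc d⁻¹ * z * d = d⁻¹ * (z * d) := by group
        _ = d⁻¹ * (d * z) := by rw [hdz]
        _ = z := by group
    have hcz' : c⁻¹ * z * c = z := by
      calc c⁻¹ * z * c = c⁻¹ * (z * c) := by group
        _ = c⁻¹ * (c * z) := by rw [hcz]
        _ = z := by group
    rw [e2, hdz', hcz']
    exact m.lx.norm d hdz _ hsQ
  · intro h
    apply hs1
    have e2 : d * (g * c⁻¹) * d⁻¹ * z * (d * (g * c⁻¹) * d⁻¹)⁻¹ =
        d * (g * (c⁻¹ * (d⁻¹ * z * d) * c) * g⁻¹) * d⁻¹ := by group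
    have hdz' : d⁻¹ * z * d = z := by
      calc d⁻¹ * z * d = d⁻¹ * (z * d) := by group
        _ = d⁻¹ * (d * z) := by rw [hdz]
        _ = z := by group
    have hcz' : c⁻¹ * z * c = z := by
      calc c⁻¹ * z * c = c⁻¹ * (z * c) := by group
        _ = c⁻¹ * (c * z) := by rw [hcz]
        _ = z := by group
    rw [e2, hdz', hcz'] at h
    calc g * z * g⁻¹ = d⁻¹ * (d * (g * z * g⁻¹) * d⁻¹) * d := by group
      _ = d⁻¹ * z * d := by rw [h]
      _ = z := hdz'

end frame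

end Cfsg.Agent.Helper9.MonsterType
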