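import Mathlib
import Cfsg.Agent.Helper9.MonsterType.BabyLat
import Cfsg.Agent.Helper9.MonsterType.BabyFaith
import Cfsg.Agent.Helper9.MonsterType.Count

/-!
Groups of Monster type: the centralizer of an involution `t` of `Q` that is not conjugate to `z`
and is represented by the short vector `u = (4, 4, 0, …)`.
-/

set_option autoImplicit false

namespace Cfsg.Agent.Helper9.MonsterType

open Cfsg Cfsg.Agent.Helper3.LargeX Cfsg.Agent.Helper9.Leech

/-- The hypotheses on the involution `t`. -/
structure TC {G : Type*} [Group G] (z : G) (QG : Subgroup G) (Rep : leechLattice → G → Prop)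
    (t : G) : Prop where
  mem : t ∈ QG
  sq : t * t = 1
  ne_one : t ≠ 1
  nc : ¬ IsConj z t
  rep : Rep Spor.leechU t

section mt

variable {G : Type*} [Group G] {z : G} {QG : Subgroup G} {Rep : leechLattice → G → Prop}
  {Lift : Co0 → G → Prop} {t : G}

namespace MT

theorem t_ne_z (_m : MT z QG Rep Lift) (c : TC z QG Rep t) : t ≠ z := by
  intro h
  apply c.nc
  rw [h]

theorem t_comm_z (m : MT z QG Rep Lift) (c : TC z QG Rep t) : t * z = z * t :=
  m.lx.z_comm t c.mem

theorem t_inv (_m : MT z QG Rep Lift) (c : TC z QG Rep t) : t⁻¹ = t :=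
  inv_eq_of_mul_eq_one_left c.sq

theorem exists_flip (m : MT z QG Rep Lift) (c : TC z QG Rep t) :
    ∃ q ∈ QG, q * t * q⁻¹ = z * t :=
  m.lx.exists_noncomm c.mem c.ne_one (m.t_ne_z c)

theorem zt_nc (m : MT z QG Rep Lift) (c : TC z QG Rep t) : ¬ IsConj z (z * t) := by
  intro h
  apply c.nc
  obtain ⟨q, -, hq⟩ := m.exists_flip c
  apply h.trans
  rw [isConj_iff]
  refine ⟨q⁻¹, ?_⟩
  rw [← hq]; group

/-- An element centralizing `t` and centralizing `z` modulo `t` centralizes `z`. -/
theorem cent_z_of_coset (m : MT z QG Rep Lift) (c : TC z QG Rep t) {d : G}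
    (h : z * d = d * z ∨ z * d = d * z * t) : d * z = z * d := by
  rcases h with h | h
  · exact h.symm
  · exfalso
    apply m.zt_nc c
    rw [isConj_iff]
    refine ⟨d⁻¹, ?_⟩
    calc d⁻¹ * z * d⁻¹⁻¹ = d⁻¹ * (z * d) := by group
      _ = d⁻¹ * (d * z * t) := by rw [h]
      _ = z * t := by group

theorem lift_pm (m : MT z QG Rep Lift) (c : TC z QG Rep t) {g : Co0} {d : G}
    (hdt : d * t = t * d) (hL : Lift g d) :
    g • Spor.leechU = Spor.leechU ∨ g • Spor.leechU = -Spor.leechU := by
  have hr := m.lift_rep hL c.rep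
  have e : d * t * d⁻¹ = t := by rw [hdt]; group
  rw [e] at hr
  exact m.rep_pm c.rep hr normU' (by rw [sqNorm_smul]; exact normU')

theorem lift_neg (m : MT z QG Rep Lift) {g : Co0} {d : G} (hL : Lift g d) :
    Lift (negEl * g) d := by
  have := m.lift_mul (m.lift_ker negEl_mem_center QG.one_mem) hL
  rwa [one_mul] at this

/-- Elements centralizing `z` and `t` map to the stabilizer of `u`. -/
theorem lift_co2 (m : MT z QG Rep Lift) (c : TC z QG Rep t) {d : G} (hdz : d * z = z * d)
    (hdt : d * t = t * d) : ∃ g : Co0, g • Spor.leechU = Spor.leechU ∧ Lift g d := by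
  obtain ⟨g, hg⟩ := m.lift_exists' d hdz
  rcases m.lift_pm c hdt hg with h | h
  · exact ⟨g, h, hg⟩
  · refine ⟨negEl * g, ?_, m.lift_neg hg⟩
    rw [mul_smul', h, negEl_smul, neg_neg]

theorem u_ne_zero : (Spor.leechU : leechLattice) ≠ 0 :=
  ne_zero_of_pos (by rw [normU']; norm_num)

theorem eq_one_of_center (g : Co0) (hg : g ∈ Subgroup.center Co0)
    (hu : g • Spor.leechU = Spor.leechU) : g = 1 := by
  rcases center_cases g hg with h | h
  · exact h
  · exfalso
    rw [h, negEl_smul] at hu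
    exact neg_ne_self u_ne_zero hu

theorem lift_uniq (m : MT z QG Rep Lift) {g g' : Co0} {d : G}
    (hg : g • Spor.leechU = Spor.leechU) (hg' : g' • Spor.leechU = Spor.leechU)
    (hL : Lift g d) (hL' : Lift g' d) : g = g' := by
  have h1 := m.lift_mul (m.lift_inv hL) hL'
  rw [inv_mul_cancel] at h1
  have h2 := (m.lift_cen h1).mp QG.one_mem
  have h3 : (g⁻¹ * g') • Spor.leechU = Spor.leechU := by
    rw [mul_smul', hg', inv_smul_eq_iff, hg]
  have h4 := eq_one_of_center _ h2 h3
  calc g = g * (g⁻¹ * g') := by rw [h4, mul_one]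
    _ = g' := by group

theorem lift_surj (m : MT z QG Rep Lift) (c : TC z QG Rep t) (g : Co0)
    (hg : g • Spor.leechU = Spor.leechU) : ∃ d : G, Lift g d ∧ d * t = t * d :=
  m.exists_lift_cent c.rep c.ne_one (m.t_ne_z c) g (by rw [hg]; exact c.rep)

theorem lift_mem_iff (m : MT z QG Rep Lift) {g : Co0} {d : G}
    (hg : g • Spor.leechU = Spor.leechU) (hL : Lift g d) : d ∈ QG ↔ g = 1 := by
  rw [m.lift_cen hL]
  constructor
  · intro h; exact eq_one_of_center g h hg
  · intro h; rw [h]; exact Subgroup.one_mem _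

theorem rep_comm_t (m : MT z QG Rep Lift) (c : TC z QG Rep t) {v : leechLattice} {x : G}
    (hx : Rep v x) : x * t = t * x ↔ (16 : ℤ) ∣ dotInt (v : GolayPt → ℤ) Spor.vecU :=
  m.comm_iff hx c.rep

/-- An element centralizing `z` and `t` and centralizing `C_Q(t)` modulo `t` lies in `Q`. -/
theorem selfC_t [Finite G] (m : MT z QG Rep Lift) (c : TC z QG Rep t) {d : G}
    (hdz : d * z = z * d) (hdt : d * t = t * d)
    (h : ∀ r ∈ QG, r * t = t * r → d * r = r * d ∨ d * r = r * d * t) : d ∈ QG := by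
  obtain ⟨g, hgu, hL⟩ := m.lift_co2 c hdz hdt
  rw [m.lift_mem_iff hgu hL]
  apply stab_faithful g hgu
  intro v hv
  obtain ⟨r, hr⟩ := m.rep_total v
  have hrQ := m.rep_mem hr
  have hrt : r * t = t * r := (m.rep_comm_t c hr).mpr hv
  have hrep := m.lift_rep hL hr
  rcases h r hrQ hrt with h1 | h1
  · have e : d * r * d⁻¹ = r := by rw [h1]; group
    rw [e] at hrep
    obtain ⟨u', hu', hd'⟩ := m.rep_cong hrep hr
    refine Or.inl ⟨⟨u', hu'⟩, ?_⟩
    apply Subtype.ext
    rw [AddSubgroup.coe_sub, AddSubgroup.coe_add]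
    rw [hd', two_smul]
  · have e : d * r * d⁻¹ = r * t := by
      calc d * r * d⁻¹ = (r * d * t) * d⁻¹ := by rw [h1]
        _ = r * (d * t) * d⁻¹ := by group
        _ = r * (t * d) * d⁻¹ := by rw [hdt]
        _ = r * t := by group
    rw [e] at hrep
    obtain ⟨u', hu', hd'⟩ := m.rep_cong hrep (m.rep_add hr c.rep)
    refine Or.inr ⟨⟨u', hu'⟩, ?_⟩
    apply Subtype.ext
    rw [AddSubgroup.coe_sub, AddSubgroup.coe_add, AddSubgroup.coe_add]
    have e2 : ((g • v : leechLattice) : GolayPt → ℤ) =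
        ((v + Spor.leechU : leechLattice) : GolayPt → ℤ) + 2 • u' := by
      rw [← hd']; abel
    rw [e2, AddSubgroup.coe_add, two_smul]
    abel

/-- Elements of `Q` centralizing `C_Q(t)`. -/
theorem cent_R (m : MT z QG Rep Lift) (c : TC z QG Rep t) {r : G} (hr : r ∈ QG)
    (h : ∀ b ∈ QG, b * t = t * b → r * b = b * r) : r = 1 ∨ r = z ∨ r = t ∨ r = z * t :=
  m.lx.mem_four_of_centralizes c.mem c.sq hr h

/-- The order of `C_Q(t)`. -/
theorem card_R (m : MT z QG Rep Lift) (c : TC z QG Rep t) :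
    Nat.card ↥(QG ⊓ Subgroup.centralizer ({t} : Set G)) = 2 ^ 24 := by
  obtain ⟨p0, hp0, hp0t⟩ := m.exists_flip c
  have hrel : (Subgroup.centralizer ({t} : Set G)).relIndex QG = 2 := by
    rw [Subgroup.relIndex_eq_two_iff_exists_notMem_and]
    refine ⟨p0, hp0, ?_, ?_⟩
    · intro h
      rw [Subgroup.mem_centralizer_singleton_iff] at h
      exact m.lx.not_comm_of_conj hp0t h
    · intro b hb
      rcases m.lx.comm_or hb c.mem with h1 | h1
      · right
        exact Subgroup.mem_centralizer_singleton_iff.mpr h1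
      · left
        rw [Subgroup.mem_centralizer_singleton_iff]
        have e : b * p0 * t * (b * p0)⁻¹ = t := by
          calc b * p0 * t * (b * p0)⁻¹ = b * (p0 * t * p0⁻¹) * b⁻¹ := by group
            _ = b * (z * t) * b⁻¹ := by rw [hp0t]
            _ = (b * z * b⁻¹) * (b * t * b⁻¹) := by group
            _ = z * (z * t) := by rw [m.lx.conj_z hb, h1]
            _ = (z * z) * t := by group
            _ = t := by rw [m.lx.z_sq, one_mul]
        calc b * p0 * t = (b * p0 * t * (b * p0)⁻¹) * (b * p0) := by group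
          _ = t * (b * p0) := by rw [e]
  have h2 := card_inf_of_relIndex_two _ _ hrel
  rw [m.card] at h2
  rw [inf_comm]
  omega

end MT

end mt

end Cfsg.Agent.Helper9.MonsterType
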