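import Mathlib
import Cfsg.Agent.Helper9.MonsterType.BabyMath
import Cfsg.Agent.Helper9.MonsterType.BabyBuild
import Cfsg.Agent.Helper9.Leech.MonoStructB

/-!
Groups of Monster type: the centralizer of an involution `t` of `Q` not conjugate to `z`, modulo `t`,
is a group of Baby Monster type.
-/

set_option autoImplicit false

namespace Cfsg.Agent.Helper9.MonsterType

open Cfsg Cfsg.Agent.Helper3.LargeX Cfsg.Agent.Helper9.Leech

theorem mem_co2 (g : Equiv.Perm leechLattice) :
    g ∈ Spor.Co2 ↔ g ∈ Co0 ∧ g Spor.leechU = Spor.leechU := by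
  unfold Spor.Co2
  rw [Subgroup.mem_inf, MulAction.mem_stabilizer_iff]
  rfl

/-- the inclusion of the second Conway group in the automorphism group. -/
def co (g : ↥Spor.Co2) : ↥Co0 := ⟨g.1, ((mem_co2 g.1).mp g.2).1⟩

theorem co_smul (g : ↥Spor.Co2) (v : leechLattice) : co g • v = g • v := rfl

theorem co_fix (g : ↥Spor.Co2) : co g • Spor.leechU = Spor.leechU := ((mem_co2 g.1).mp g.2).2

theorem co_mul (g g' : ↥Spor.Co2) : co (g * g') = co g * co g' := rfl

theorem co_one : co 1 = 1 := rfl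

theorem co_injective : Function.Injective co := by
  intro g g' h
  apply Subtype.ext
  exact congrArg (fun x : ↥Co0 => (x : Equiv.Perm leechLattice)) h

/-- elements of the stabilizer as elements of the second Conway group. -/
def ofCo (g : ↥Co0) (hg : g • Spor.leechU = Spor.leechU) : ↥Spor.Co2 :=
  ⟨g.1, (mem_co2 g.1).mpr ⟨g.2, hg⟩⟩

theorem co_ofCo (g : ↥Co0) (hg : g • Spor.leechU = Spor.leechU) : co (ofCo g hg) = g := rfl

theorem co_eq_one {g : ↥Spor.Co2} (h : co g = 1) : g = 1 := co_injective (h.trans co_one.symm)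

/-- the second Conway group as the stabilizer of the short vector. -/
def co2Stab : ↥Spor.Co2 ≃* ↥(MulAction.stabilizer ↥Co0 Spor.leechU) where
  toFun g := ⟨co g, MulAction.mem_stabilizer_iff.mpr (co_fix g)⟩
  invFun s := ofCo s.1 (MulAction.mem_stabilizer_iff.mp s.2)
  left_inv _ := rfl
  right_inv _ := rfl
  map_mul' _ _ := rfl

theorem co2_isSimple : IsSimpleGroup ↥Spor.Co2 :=
  co2Stab.isSimpleGroup_congr.mpr (co2_simple_card Spor.leechU normU').1

theorem co2_card_not_prime : ¬ (Nat.card ↥Spor.Co2).Prime := by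
  rw [Nat.card_congr co2Stab.toEquiv, (co2_simple_card Spor.leechU normU').2]
  norm_num

section transfer

variable {G : Type*} [Group G] {z : G} {QG : Subgroup G} {Rep : leechLattice → G → Prop}
  {Lift : Co0 → G → Prop} {t : G} {H : Type*} [Group H]
  (p : ↥(Subgroup.centralizer ({t} : Set G)) →* H)

/-- the image of `C_Q(t)`. -/
def RH (QG : Subgroup G) : Subgroup H :=
  ((QG ⊓ Subgroup.centralizer ({t} : Set G)).subgroupOf (Subgroup.centralizer ({t} : Set G))).map p

/-- a lattice vector orthogonal to `u` modulo 2 represents an element of the quotient. -/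
def RepH (Rep : leechLattice → G → Prop) (v : leechPerpU) (h : H) : Prop :=
  ∃ x : ↥(Subgroup.centralizer ({t} : Set G)), Rep (v : leechLattice) (x : G) ∧ p x = h

/-- an element of the second Conway group is the image of an element of the quotient. -/
def LiftH (z : G) (Lift : Co0 → G → Prop) (g : ↥Spor.Co2) (h : H) : Prop :=
  ∃ d : ↥(Subgroup.centralizer ({t} : Set G)), (d : G) * z = z * (d : G) ∧ Lift (co g) (d : G) ∧
    p d = h

variable {p}

theorem mem_RH {h : H} : h ∈ RH p QG ↔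
    ∃ x : ↥(Subgroup.centralizer ({t} : Set G)), (x : G) ∈ QG ∧ p x = h := by
  unfold RH
  constructor
  · rintro ⟨x, hx, rfl⟩
    have hx' := Subgroup.mem_subgroupOf.mp hx
    exact ⟨x, hx'.1, rfl⟩
  · rintro ⟨x, hx, rfl⟩
    exact ⟨x, Subgroup.mem_subgroupOf.mpr ⟨hx, x.2⟩, rfl⟩

theorem memX {x : G} : x ∈ Subgroup.centralizer ({t} : Set G) ↔ x * t = t * x :=
  Subgroup.mem_centralizer_singleton_iff

/-- equality of images. -/
theorem peq (hk : ∀ x : ↥(Subgroup.centralizer ({t} : Set G)), p x = 1 ↔ (x : G) = 1 ∨ (x : G) = t)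
    (a b : ↥(Subgroup.centralizer ({t} : Set G))) :
    p a = p b ↔ (b : G) = (a : G) ∨ (b : G) = (a : G) * t := by
  have h1 : p a = p b ↔ p (a⁻¹ * b) = 1 := by
    rw [map_mul, map_inv, inv_mul_eq_one]
  rw [h1, hk]
  have e : ((a⁻¹ * b : ↥(Subgroup.centralizer ({t} : Set G))) : G) = (a : G)⁻¹ * (b : G) := rfl
  rw [e]
  constructor
  · rintro (h | h)
    · left; exact (inv_mul_eq_one.mp h).symm
    · right; exact eq_mul_of_inv_mul_eq h
  · rintro (h | h)
    · left; rw [h]; group
    · right; rw [h]; group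

set_option maxHeartbeats 2000000 in
/-- The element-wise data of a group of Baby Monster type for the quotient. -/
theorem bt_of [Finite G] (m : MT z QG Rep Lift) (c : TC z QG Rep t)
    (hp : Function.Surjective p)
    (hk : ∀ x : ↥(Subgroup.centralizer ({t} : Set G)), p x = 1 ↔ (x : G) = 1 ∨ (x : G) = t)
    (hnw : ∃ h : G, h * t = t * h ∧ h * z * h⁻¹ ∈ QG ∧ h * z * h⁻¹ ≠ z) :
    BT (p ⟨z, memX.mpr (m.t_comm_z c).symm⟩) (RH p QG) (RepH p Rep) (LiftH p z Lift) := by
  have hz1 := m.lx.z_ne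
  have hz2 := m.lx.z_sq
  have htinv : t⁻¹ = t := m.t_inv c
  have hcz : ∀ d : ↥(Subgroup.centralizer ({t} : Set G)),
      p d * p ⟨z, memX.mpr (m.t_comm_z c).symm⟩ = p ⟨z, memX.mpr (m.t_comm_z c).symm⟩ * p d →
      (d : G) * z = z * (d : G) := by
    intro d hd
    rw [← map_mul, ← map_mul, peq hk] at hd
    exact m.cent_z_of_coset c hd
  have hliftT : Lift 1 t := m.lift_ker (Subgroup.one_mem _) c.mem
  refine
    { z_ord := ?_, z_mem := ?_, R_comm := ?_, comm := ?_, sq := ?_, cent := ?_, card := ?_,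
      norm := ?_, selfC := ?_, nwc := ?_, lift_total := ?_, lift_uniq := ?_, lift_mul := ?_,
      lift_comm := ?_, lift_surj := ?_, lift_ker := ?_, rep_mem := ?_, rep_total := ?_,
      rep_exists := ?_, rep_add := ?_, rep_uniq := ?_, rep_mul_z := ?_, rep_ker := ?_,
      lift_rep := ?_ }
  · -- z_ord
    apply orderOf_eq_prime
    · rw [pow_two, ← map_mul]
      have : (⟨z, memX.mpr (m.t_comm_z c).symm⟩ : ↥(Subgroup.centralizer ({t} : Set G))) *
          ⟨z, memX.mpr (m.t_comm_z c).symm⟩ = 1 := Subtype.ext hz2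
      rw [this, map_one]
    · intro h
      rcases (hk _).mp h with h1 | h1
      · exact hz1 h1
      · exact m.t_ne_z c h1.symm
  · -- z_mem
    exact mem_RH.mpr ⟨_, m.lx.z_mem, rfl⟩
  · -- R_comm
    intro r hr
    obtain ⟨x, hxQ, rfl⟩ := mem_RH.mp hr
    rw [← map_mul, ← map_mul]
    congr 1
    exact Subtype.ext (m.lx.z_comm x hxQ)
  · -- comm
    intro a ha b hb
    obtain ⟨x, hx, rfl⟩ := mem_RH.mp ha
    obtain ⟨y, hy, rfl⟩ := mem_RH.mp hb
    rw [← map_inv, ← map_inv, ← map_mul, ← map_mul, ← map_mul]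
    rcases m.lx.comm x hx y hy with h | h
    · left
      have : x * y * x⁻¹ * y⁻¹ = 1 := Subtype.ext h
      rw [this, map_one]
    · right
      congr 1
      exact Subtype.ext h
  · -- sq
    intro a ha
    obtain ⟨x, hx, rfl⟩ := mem_RH.mp ha
    rw [← map_mul]
    rcases m.sq x hx with h | h
    · left
      have : x * x = 1 := Subtype.ext h
      rw [this, map_one]
    · right
      congr 1
      exact Subtype.ext h
  · -- cent
    intro a ha hcomm
    obtain ⟨x, hx, rfl⟩ := mem_RH.mp ha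
    have h4 : (x : G) = 1 ∨ (x : G) = z ∨ (x : G) = t ∨ (x : G) = z * t := by
      apply m.cent_R c hx
      intro b hb hbt
      have h1 := hcomm (p ⟨b, memX.mpr hbt⟩) (mem_RH.mpr ⟨⟨b, memX.mpr hbt⟩, hb, rfl⟩)
      rw [← map_mul, ← map_mul, peq hk] at h1
      rcases h1 with h1 | h1
      · exact h1.symm
      · exfalso
        have h2 : (b : G)⁻¹ * (x : G)⁻¹ * b * (x : G) = t := by
          have h1' : b * (x : G) = (x : G) * b * t := h1
          calc (b : G)⁻¹ * (x : G)⁻¹ * b * (x : G) = ((x : G) * b)⁻¹ * (b * (x : G)) := by group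
            _ = ((x : G) * b)⁻¹ * ((x : G) * b * t) := by rw [h1']
            _ = t := by group
        have h3 := m.lx.comm b⁻¹ (QG.inv_mem hb) (x : G)⁻¹ (QG.inv_mem hx)
        rw [inv_inv, inv_inv, h2] at h3
        rcases h3 with h3 | h3
        · exact c.ne_one h3
        · exact m.t_ne_z c h3
    rcases h4 with h | h | h | h
    · left
      have : x = 1 := Subtype.ext h
      rw [this, map_one]
    · right
      congr 1
      exact Subtype.ext h
    · left
      exact (hk x).mpr (Or.inr h)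
    · right
      rw [peq hk]
      right
      rw [h]
      show z = z * t * t
      rw [mul_assoc, c.sq, mul_one]
  · -- card
    have h1 := Cfsg.Agent.Helper9.Leech.Mono.card_map_mul p
      ((QG ⊓ Subgroup.centralizer ({t} : Set G)).subgroupOf (Subgroup.centralizer ({t} : Set G)))
    have h2 : p.ker ⊓ (QG ⊓ Subgroup.centralizer ({t} : Set G)).subgroupOf
        (Subgroup.centralizer ({t} : Set G)) = p.ker := by
      apply inf_eq_left.mpr
      intro x hx
      rw [MonoidHom.mem_ker, hk] at hx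
      rw [Subgroup.mem_subgroupOf]
      refine ⟨?_, x.2⟩
      rcases hx with h | h
      · rw [h]; exact QG.one_mem
      · rw [h]; exact c.mem
    have h3 : Nat.card ↥p.ker = 2 := by
      rw [Nat.card_eq_two_iff]
      refine ⟨⟨1, Subgroup.one_mem _⟩, ⟨⟨t, memX.mpr rfl⟩,
        MonoidHom.mem_ker.mpr ((hk _).mpr (Or.inr rfl))⟩, ?_, ?_⟩
      · intro e
        have e1 := congrArg (fun x : ↥p.ker =>
          ((x : ↥(Subgroup.centralizer ({t} : Set G))) : G)) e
        exact c.ne_one e1.symm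
      · apply Set.eq_univ_of_forall
        intro x
        rcases (hk x.1).mp (MonoidHom.mem_ker.mp x.2) with e | e
        · left
          apply Subtype.ext; apply Subtype.ext
          exact e
        · right
          apply Subtype.ext; apply Subtype.ext
          exact e
    rw [h2, h3, card_subgroupOf_of_le inf_le_right, m.card_R c] at h1
    unfold RH
    omega
  · -- norm
    intro c' hc' r hr
    obtain ⟨d, rfl⟩ := hp c'
    obtain ⟨x, hx, rfl⟩ := mem_RH.mp hr
    have hdz := hcz d hc'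
    rw [← map_inv, ← map_mul, ← map_mul]
    exact mem_RH.mpr ⟨d * x * d⁻¹, m.lx.norm (d : G) hdz (x : G) hx, rfl⟩
  · -- selfC
    intro c' hc' hcomm
    obtain ⟨d, rfl⟩ := hp c'
    have hdz := hcz d hc'
    have hdt : (d : G) * t = t * (d : G) := memX.mp d.2
    have hdQ : (d : G) ∈ QG := by
      apply m.selfC_t c hdz hdt
      intro r hr hrt
      have h1 := hcomm (p ⟨r, memX.mpr hrt⟩) (mem_RH.mpr ⟨⟨r, memX.mpr hrt⟩, hr, rfl⟩)
      rw [← map_mul, ← map_mul] at h1
      have h2 := (peq hk _ _).mp h1.symm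
      exact h2
    exact mem_RH.mpr ⟨d, hdQ, rfl⟩
  · -- nwc
    obtain ⟨h, hht, hhQ, hhz⟩ := hnw
    refine ⟨p ⟨h, memX.mpr hht⟩, ?_, ?_⟩
    · rw [← map_inv, ← map_mul, ← map_mul]
      exact mem_RH.mpr ⟨_, hhQ, rfl⟩
    · rw [← map_inv, ← map_mul, ← map_mul]
      intro he
      rcases (peq hk _ _).mp he with h1 | h1
      · exact hhz h1.symm
      · apply m.zt_nc c
        rw [isConj_iff]
        refine ⟨h, ?_⟩
        have h1' : z = h * z * h⁻¹ * t := h1
        calc h * z * h⁻¹ = (h * z * h⁻¹ * t) * t⁻¹ := by group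
          _ = z * t⁻¹ := by rw [← h1']
          _ = z * t := by rw [htinv]
  · -- lift_total
    intro c' hc'
    obtain ⟨d, rfl⟩ := hp c'
    have hdz := hcz d hc'
    have hdt : (d : G) * t = t * (d : G) := memX.mp d.2
    obtain ⟨g0, hg0u, hL⟩ := m.lift_co2 c hdz hdt
    exact ⟨ofCo g0 hg0u, d, hdz, hL, rfl⟩
  · -- lift_uniq
    rintro g g' c' ⟨d, hdz, hL, rfl⟩ ⟨d', hdz', hL', hpe⟩
    apply co_injective
    rcases (peq hk _ _).mp hpe with h1 | h1
    · rw [h1] at hL
      exact m.lift_uniq (co_fix g) (co_fix g') hL hL'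
    · have hL2 := m.lift_mul hL' hliftT
      rw [mul_one, ← h1] at hL2
      exact m.lift_uniq (co_fix g) (co_fix g') hL hL2
  · -- lift_mul
    rintro g g' c1 c2 ⟨d, hdz, hL, rfl⟩ ⟨d', hdz', hL', rfl⟩
    refine ⟨d * d', ?_, ?_, map_mul p d d'⟩
    · show (d : G) * (d' : G) * z = z * ((d : G) * (d' : G))
      rw [mul_assoc, hdz', ← mul_assoc, hdz, mul_assoc]
    · rw [co_mul]
      exact m.lift_mul hL hL'
  · -- lift_comm
    rintro g c' ⟨d, hdz, hL, rfl⟩
    rw [← map_mul, ← map_mul]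
    congr 1
    exact Subtype.ext hdz
  · -- lift_surj
    intro g
    obtain ⟨d, hL, hdt⟩ := m.lift_surj c (co g) (co_fix g)
    exact ⟨p ⟨d, memX.mpr hdt⟩, ⟨d, memX.mpr hdt⟩, m.lift_comm hL, hL, rfl⟩
  · -- lift_ker
    rintro g c' ⟨d, hdz, hL, rfl⟩
    constructor
    · intro hR
      obtain ⟨x, hxQ, hpe⟩ := mem_RH.mp hR
      have hdQ : (d : G) ∈ QG := by
        rcases (peq hk _ _).mp hpe with h1 | h1
        · rw [h1]; exact hxQ
        · rw [h1]; exact QG.mul_mem hxQ c.mem
      exact co_eq_one ((m.lift_mem_iff (co_fix g) hL).mp hdQ)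
    · intro hg
      rw [hg, co_one] at hL
      have hdQ : (d : G) ∈ QG := (m.lift_mem_iff (by rw [one_smul]) hL).mpr rfl
      exact mem_RH.mpr ⟨d, hdQ, rfl⟩
  · -- rep_mem
    rintro v h ⟨x, hx, rfl⟩
    exact mem_RH.mpr ⟨x, m.rep_mem hx, rfl⟩
  · -- rep_total
    intro v
    obtain ⟨x, hx⟩ := m.rep_total (v : leechLattice)
    have hxt : x * t = t * x := (m.rep_comm_t c hx).mpr v.2
    exact ⟨p ⟨x, memX.mpr hxt⟩, ⟨x, memX.mpr hxt⟩, hx, rfl⟩
  · -- rep_exists
    intro h hR
    obtain ⟨x, hxQ, rfl⟩ := mem_RH.mp hR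
    obtain ⟨v0, hv0⟩ := m.rep_exists (x : G) hxQ
    have hv0U : v0 ∈ leechPerpU := (m.rep_comm_t c hv0).mp (memX.mp x.2)
    exact ⟨⟨v0, hv0U⟩, x, hv0, rfl⟩
  · -- rep_add
    rintro v w h1 h2 ⟨x, hx, rfl⟩ ⟨y, hy, rfl⟩
    exact ⟨x * y, m.rep_add hx hy, map_mul p x y⟩
  · -- rep_uniq
    rintro v h1 h2 ⟨x, hx, rfl⟩ ⟨y, hy, rfl⟩
    rcases m.rep_uniq hx hy with h | h
    · left
      congr 1
      exact Subtype.ext h
    · right
      rw [← map_mul]
      congr 1
      exact Subtype.ext h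
  · -- rep_mul_z
    rintro v h1 ⟨x, hx, rfl⟩
    exact ⟨x * ⟨z, memX.mpr (m.t_comm_z c).symm⟩, m.rep_mul_z hx, map_mul p _ _⟩
  · -- rep_ker
    rintro v h1 ⟨x, hx, rfl⟩
    have hxt := m.rep_add hx c.rep
    have e1 : (x : G) = t ↔ (x : G) * t = 1 := by
      constructor
      · intro h; rw [h, c.sq]
      · intro h
        calc (x : G) = ((x : G) * t) * t⁻¹ := by group
          _ = t := by rw [h, one_mul, htinv]
    have e2 : (x : G) = z * t ↔ (x : G) * t = z := by
      constructor
      · intro h; rw [h, mul_assoc, c.sq, mul_one]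
      · intro h
        calc (x : G) = ((x : G) * t) * t⁻¹ := by group
          _ = z * t := by rw [h, htinv]
    have e3 : (∃ w : leechLattice, (v : leechLattice) + Spor.leechU = w + w) ↔
        ∃ w : leechLattice, (v : leechLattice) = Spor.leechU + (w + w) := by
      constructor
      · rintro ⟨w, hw⟩
        refine ⟨w - Spor.leechU, ?_⟩
        have : (v : leechLattice) = w + w - Spor.leechU := by rw [← hw]; abel
        rw [this]; abel
      · rintro ⟨w, hw⟩
        refine ⟨w + Spor.leechU, ?_⟩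
        rw [hw]; abel
    rw [hk, peq hk, ← m.rep_dbl hx, ← e3, ← m.rep_dbl hxt, ← e1, ← e2]
    constructor
    · rintro ((h | h) | (h | h))
      · exact Or.inl (Or.inl h)
      · exact Or.inr (Or.inl h)
      · exact Or.inl (Or.inr h.symm)
      · exact Or.inr (Or.inr (e2.mpr h.symm))
    · rintro ((h | h) | (h | h))
      · exact Or.inl (Or.inl h)
      · exact Or.inr (Or.inl h.symm)
      · exact Or.inl (Or.inr h)
      · exact Or.inr (Or.inr (e2.mp h).symm)
  · -- lift_rep
    rintro g c' v y x' ⟨d, hdz, hL, rfl⟩ ⟨x, hx, rfl⟩ hgv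
    refine ⟨d * x * d⁻¹, ?_, by rw [map_mul, map_mul, map_inv]⟩
    have := m.lift_rep hL hx
    rw [co_smul, hgv] at this
    exact this

end transfer

end Cfsg.Agent.Helper9.MonsterType
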