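import Mathlib
import Cfsg.Agent.Helper9.MonsterType.BabyTransfer
import Cfsg.Agent.Helper9.MonsterType.BabyNwc
import Cfsg.Agent.Helper9.MonsterType.Main1
import Cfsg.Agent.Helper9.MonsterType.Twist
import Cfsg.Agent.Helper9.Leech.Trans32

/-!
Groups of Monster type: the centralizer of an involution `t` of `Q` not conjugate to `z`, modulo `t`,
is a group of Baby Monster type.
-/

set_option autoImplicit false

namespace Cfsg.Agent.Helper9.MonsterType

open Cfsg Cfsg.Agent.Helper3.LargeX Cfsg.Agent.Helper9.Leech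

set_option maxHeartbeats 1000000 in
theorem baby_of_monster {G : Type*} [Group G] [Finite G] (z : G) (Q : Subgroup (Subgroup.centralizer ({z} : Set G))) [Q.Normal] (hM : Cfsg.IsOfMonsterType z Q) (t : G) (htQ : ∃ htc : t ∈ Subgroup.centralizer ({z} : Set G), (⟨t, htc⟩ : Subgroup.centralizer ({z} : Set G)) ∈ Q) (ht2 : orderOf t = 2) (ht : ¬ IsConj z t) [hn : ((Subgroup.zpowers t).subgroupOf (Subgroup.centralizer ({t} : Set G))).Normal] : Cfsg.IsOfBabyMonsterType (↥(Subgroup.centralizer ({t} : Set G)) ⧸ (Subgroup.zpowers t).subgroupOf (Subgroup.centralizer ({t} : Set G))) := by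
  classical
  obtain ⟨hset, e, ψ, hψ⟩ := hM
  have m0 := mt_of Q e ψ hset hψ
  have htQG : t ∈ Q.map (Subgroup.centralizer ({z} : Set G)).subtype := (mem_map_iff Q t).mpr htQ
  obtain ⟨v, hvn, hv⟩ := m0.rep32_of_invol htQG ht2 ht
  obtain ⟨g0, hg0⟩ := trans32 Spor.leechU v normU' hvn
  have hψ' := twist_iso Q e ψ hψ g0
  have m := mt_of Q (twistE Q e g0) (twistPsi Q ψ g0) hset hψ'
  have hv' : Rep Q (twistPsi Q ψ g0) Spor.leechU t := by
    obtain ⟨hx, hxQ, h⟩ := hv
    refine ⟨hx, hxQ, ?_⟩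
    show ψ (g0 • Spor.leechU) = _
    rw [hg0]; exact h
  have ht1 : t ≠ 1 := by
    intro h
    rw [h, orderOf_one] at ht2
    omega
  have htsq : t * t = 1 := by
    rw [← pow_two, ← ht2]; exact pow_orderOf_eq_one t
  have c : TC z (Q.map (Subgroup.centralizer ({z} : Set G)).subtype) (Rep Q (twistPsi Q ψ g0)) t :=
    ⟨htQG, htsq, ht1, ht, hv'⟩
  have hnw := nwc_t Q e ψ hset hψ t htQG ht2 ht
  have hp : Function.Surjective (QuotientGroup.mk'
      ((Subgroup.zpowers t).subgroupOf (Subgroup.centralizer ({t} : Set G)))) :=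
    QuotientGroup.mk'_surjective _
  have hk : ∀ x : ↥(Subgroup.centralizer ({t} : Set G)),
      (QuotientGroup.mk' ((Subgroup.zpowers t).subgroupOf (Subgroup.centralizer ({t} : Set G)))) x = 1 ↔
        (x : G) = 1 ∨ (x : G) = t := by
    intro x
    rw [QuotientGroup.mk'_apply, QuotientGroup.eq_one_iff, Subgroup.mem_subgroupOf,
      Subgroup.mem_zpowers_iff]
    constructor
    · rintro ⟨k, hk⟩
      rw [← zpow_mod_orderOf, ht2] at hk
      rcases Int.emod_two_eq_zero_or_one k with h | h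
      · left
        rw [← hk]
        have : k % ((2 : ℕ) : ℤ) = 0 := h
        rw [this, zpow_zero]
      · right
        rw [← hk]
        have : k % ((2 : ℕ) : ℤ) = 1 := h
        rw [this, zpow_one]
    · rintro (h | h)
      · exact ⟨0, by rw [zpow_zero, h]⟩
      · exact ⟨1, by rw [zpow_one, h]⟩
  exact (bt_of m c hp hk hnw).main co2_isSimple co2_card_not_prime

end Cfsg.Agent.Helper9.MonsterType
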